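import Groth.Agent.PtBlowFactLib.Induct

/-!
# Targets of morphisms inducing isomorphisms of generic fibres
-/

set_option autoImplicit false
set_option linter.style.haveILetI false
set_option linter.unusedSectionVars false
set_option maxHeartbeats 1000000
set_option backward.isDefEq.respectTransparency false
set_option backward.isDefEq.respectTransparency.types false
universe u

open CategoryTheory CategoryTheory.Limits AlgebraicGeometry TopologicalSpace Topology IsLocalRing

noncomputable section

namespace PtBlowFactLib

variable {R : Type u} [CommRing R] [IsDomain R] [IsDiscreteValuationRing R]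

/-- A non-iso target of a contraction is an arithmetic surface. -/
theorem isArithSurface_target {X Y : Over (Spec (CommRingCat.of R))} (hX : ArSurf.IsArithSurface R X)
    (hreg : ∀ y : Y.left, IsRegularLocalRing (Y.left.presheaf.stalk y)) (hproj : Neron.IsProjectiveOver R Y)
    (hflat : Flat Y.hom) (g : X ⟶ Y) [IsIso ((Neron.genericFibre R).map g)] (hg : ¬ IsIso g.left) :
    ArSurf.IsArithSurface R Y := by
  obtain ⟨hXi, hXp, hXn⟩ := surf_instances hX
  haveI := hXi; haveI := hXp; haveI := hXn
  haveI := hX.2.2.2.1
  haveI := hflat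
  obtain ⟨n, i, hi, hiw⟩ := id hproj
  haveI := hi
  haveI := ChowLib.isProper_toBase n (Spec (CommRingCat.of R))
  haveI : IsProper Y.hom := hiw ▸ inferInstance
  haveI := isProper_hom g
  have hbij := RelMinSmLib.bijOn_generic g
  have hξ : ∀ x, genericPoint X.left ⤳ x := fun x => (genericPoint_spec X.left).specializes trivial
  have hgen : ∀ y, g.left (genericPoint X.left) ⤳ y := fun y => by
    obtain ⟨y', hy', hy'η⟩ := Flat.generalizingMap Y.hom (RelMinSmLib.eta_specializes (Y.hom y))
    obtain ⟨x', -, rfl⟩ := hbij.surjOn hy'η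
    exact ((hξ x').map g.left.continuous).trans hy'
  have hgen' : IsGenericPoint (g.left (genericPoint X.left)) (Set.univ : Set Y.left) :=
    Set.eq_univ_of_forall fun y => specializes_iff_mem_closure.1 (hgen y)
  haveI : IrreducibleSpace Y.left :=
    { toPreirreducibleSpace := ⟨hgen'.isIrreducible.2⟩, toNonempty := ⟨g.left (genericPoint X.left)⟩ }
  haveI : IsReduced Y.left := by
    haveI : ∀ y : Y.left, _root_.IsReduced (Y.left.presheaf.stalk y) := fun y => by
      haveI := hreg y
      haveI := CommAlgDim.isDomain_of_isRegularLocalRing (Y.left.presheaf.stalk y)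
      infer_instance
    exact isReduced_of_isReduced_stalk Y.left
  haveI : IsIntegral Y.left := isIntegral_of_irreducibleSpace_of_isReduced Y.left
  have hnor : ∀ q : Y.left, IsIntegrallyClosed (Y.left.presheaf.stalk q) := fun q =>
    haveI := hreg q; Groth.Agent.S9829.result _
  have hsurj : Function.Surjective g.left := fun y =>
    (hgen y).mem_closed g.left.isClosedMap.isClosed_range ⟨_, rfl⟩
  refine ⟨hreg, inferInstance, le_antisymm ?_ ?_, hflat, hproj⟩
  · exact (MiscFlat6.dim_le_of_open_or_closed g.left hsurj (Or.inr g.left.isClosedMap)).trans hX.2.2.1.le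
  · obtain ⟨y, hy, -, hbig⟩ := exists_big_fibre hX hnor g hg
    haveI : IsLocallyNoetherian Y.left := LocallyOfFiniteType.isLocallyNoetherian Y.hom
    haveI : CompactSpace Y.left := QuasiCompact.compactSpace_of_compactSpace Y.hom
    haveI : IsNoetherian Y.left := ⟨⟩
    obtain ⟨W, hW, hWi, -⟩ := exists_birational_open g hnor
    haveI := hWi
    haveI := hreg y
    haveI := CommAlgDim.isDomain_of_isRegularLocalRing (Y.left.presheaf.stalk y)
    haveI := hnor y
    obtain ⟨d, hd⟩ : ∃ d : ℕ, ringKrullDim (Y.left.presheaf.stalk y) = (d : ℕ) :=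
      ⟨_, IsRegularLocalRing.spanFinrank_maximalIdeal.symm⟩
    have h1 : ¬ ringKrullDim (Y.left.presheaf.stalk y) ≤ 1 := fun h =>
      hbig (fibre_subsingleton_of_principal g.left W hW y (hnor y) (principal_of_dim_le_one _ h))
    refine le_trans ?_ (DimIneqLib.stalk_dim_le_dim y)
    rw [hd] at h1 ⊢
    norm_cast at h1 ⊢
    omega

end PtBlowFactLib
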