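import Groth.Agent.PtBlowFactLib.Irr
import Groth.Agent.VertIntLib.Kernel
import Groth.Agent.VertIntLib.Degree
import Groth.Agent.S15544

/-!
# The intersection form on a contracted configuration is negative definite
-/

set_option autoImplicit false
set_option linter.style.haveILetI false
set_option linter.unusedSectionVars false
set_option maxHeartbeats 1000000
set_option backward.isDefEq.respectTransparency false
set_option backward.isDefEq.respectTransparency.types false
universe u

open CategoryTheory CategoryTheory.Limits AlgebraicGeometry TopologicalSpace Topology IsLocalRing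

noncomputable section

namespace PtBlowFactLib

variable {R : Type u} [CommRing R] [IsDomain R] [IsDiscreteValuationRing R]

/-- An isolated point of the closed fibre of a normal surface has a principal maximal ideal. -/
theorem principal_of_isolated {Y : Over (Spec (CommRingCat.of R))} [IsLocallyNoetherian Y.left] [IsIntegral Y.left]
    (y : Y.left) (hy : Y.hom y = closedPoint R) (hn : IsIntegrallyClosed (Y.left.presheaf.stalk y)) (W : Y.left.Opens)
    (hyW : y ∈ W) (hW : (W : Set Y.left) ∩ Models.specialFibreSet R Y ⊆ {y}) :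
    (maximalIdeal (Y.left.presheaf.stalk y)).IsPrincipal := by
  haveI : IsDomain (Y.left.presheaf.stalk y) := inferInstance
  haveI := hn
  obtain ⟨ϖ, hϖ'⟩ := IsDiscreteValuationRing.exists_irreducible R
  have hϖ : maximalIdeal R = Ideal.span {ϖ} := hϖ'.maximalIdeal_eq
  set A := Y.left.presheaf.stalk y
  have hclosed : EquidimLib.stalkPt y (closedPoint A) = y := Scheme.fromSpecStalk_closedPoint
  have hmin : maximalIdeal A ∈ (Ideal.span {Models.stalkHom R Y y ϖ}).minimalPrimes := by
    refine ⟨⟨inferInstance, (Ideal.span_singleton_le_iff_mem _).2 ?_⟩, fun q hq hqm => ?_⟩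
    · exact (VertIntLib.pi_mem_iff y (closedPoint A) hϖ).2 (by rw [hclosed]; exact hy)
    · have h1 := (VertIntLib.pi_mem_iff y ⟨q, hq.1⟩ hϖ).1 (hq.2 (Ideal.mem_span_singleton_self _))
      have h2 : EquidimLib.stalkPt y ⟨q, hq.1⟩ = EquidimLib.stalkPt y (closedPoint A) := by
        rw [hclosed]
        exact hW ⟨(EquidimLib.stalkPt_specializes y _).mem_open W.2 hyW, h1⟩
      exact (congrArg PrimeSpectrum.asIdeal (EquidimLib.stalkPt_injective y h2)).ge
  have hht : (maximalIdeal A).height ≤ 1 :=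
    Ideal.height_le_one_of_isPrincipal_of_mem_minimalPrimes _ _ hmin
  have h43 := (tfae_of_isNoetherianRing_of_isLocalRing_of_isDomain A).out 4 3
  refine h43.mpr ⟨inferInstance, fun P hP hPp => ?_⟩
  by_contra hne
  have hlt : P < maximalIdeal A := lt_of_le_of_ne (le_maximalIdeal hPp.ne_top) hne
  have h1 : (⊥ : Ideal A).height < P.height := Ideal.height_strict_mono_of_isPrime (bot_lt_iff_ne_bot.2 hP)
  have h2 : P.height < (maximalIdeal A).height := Ideal.height_strict_mono_of_isPrime hlt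
  have : (1 : ℕ∞) ≤ P.height := Order.one_le_iff_pos.2 (lt_of_le_of_lt zero_le h1)
  exact absurd (h2.trans_le hht) (not_lt.2 this)

set_option maxHeartbeats 2000000 in
/-- **Contracted configurations are negative definite.** -/
theorem contracted_negDef {X Y : Over (Spec (CommRingCat.of R))} (hX : ArSurf.IsArithSurface R X)
    [IsIntegral Y.left] [IsProper Y.hom] (hnor : ∀ q : Y.left, IsIntegrallyClosed (Y.left.presheaf.stalk q))
    (f : X ⟶ Y) (W : Y.left.Opens) (hW : (W : Set Y.left).Nonempty) [IsIso (f.left ∣_ W)] (y : Y.left)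
    {r : ℕ} (Γ : Fin r → ArSurf.VertComp R X)
    (hΓ : Function.Injective fun i => Set.range ((Γ i).ι.base : (Γ i).curve.left → X.left))
    (hΓy : ∀ i, Set.range (((Γ i).ι ≫ f.left).base : (Γ i).curve.left → Y.left) = {y})
    (L : Fin r → X.left.Modules) (hL : ∀ j, ClSub.IsInverseOf (L j) (ClSub.idealMod (Γ j).ι.ker))
    (x : Fin r → ℤ) (hx : x ≠ 0) :
    (Finset.univ : Finset (Fin r × Fin r)).sum (fun p => x p.1 * x p.2 * ArSurf.inter R X (L p.2) (Γ p.1)) < 0 := by
  classical
  haveI : IsProper X.hom := VertIntLib.isProper_of_isArithSurface hX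
  obtain ⟨hreg, hint, hdim, hflat, -⟩ := hX
  haveI := hint
  haveI := hflat
  haveI : IsLocallyNoetherian X.left := LocallyOfFiniteType.isLocallyNoetherian X.hom
  haveI : CompactSpace X.left := QuasiCompact.compactSpace_of_compactSpace X.hom
  haveI : IsLocallyNoetherian Y.left := LocallyOfFiniteType.isLocallyNoetherian Y.hom
  haveI : CompactSpace Y.left := QuasiCompact.compactSpace_of_compactSpace Y.hom
  haveI : IsNoetherian Y.left := ⟨⟩
  haveI : IsProper (f.left ≫ Y.hom) := by rw [Over.w f]; infer_instance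
  haveI : IsProper f.left := IsProper.of_comp f.left Y.hom
  have hg : ∀ i, VertIntLib.IsFibGen (Models.genPtOf R X (Γ i)) := fun i => VertIntLib.isFibGen_of_dim hdim.le (Γ i)
  refine lt_of_le_of_ne (VertIntLib.quad_nonpos_family hreg Γ hg L hL x) fun h0 => hx (funext fun i₀ => ?_)
  by_contra hi₀
  obtain ⟨n, Δ, hΔ⟩ := VertIntLib.exists_componentList (Γ i₀) (hg i₀)
  have hgD := fun i => VertIntLib.isFibGen_of_list hΔ i
  have hC := fun i => VertIntLib.isEffCartier_ker hreg (Δ i) (hgD i)
  choose L' hL' using fun k => VertIntLib.exists_inverse (IntMultLib.isInvertible_idealMod _ (hC k))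
  choose σ hσ using fun i => VertIntLib.eq_genPt_of_isFibGen hΔ (VertIntLib.genPt_over (Γ i)) (hg i)
  have key : ∀ i j, ArSurf.inter R X (L j) (Γ i) = ArSurf.inter R X (L' (σ j)) (Δ (σ i)) := fun i j => by
    have hk := VertIntLib.ker_eq_of_genPt (Γ j) (Δ (σ j)) (hσ j).symm
    rw [← VertIntLib.inter_eq_of_genPt hreg hΔ hL' (Γ i) (hg i) (hσ i).symm (σ j),
      VertIntLib.inter_eq_neg (Γ i) (hk ▸ hC (σ j)) (hL j), VertIntLib.inter_eq_neg (Γ i) (hC (σ j)) (hL' (σ j)), hk]
  have hσi : Function.Injective σ := fun i j h => hΓ (by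
    simp only [VertIntLib.range_eq_closure, ← hσ, h])
  set b : Fin n → ℤ := fun k => ∑ i, if σ i = k then x i else 0
  have hb : ∀ i, b (σ i) = x i := fun i => by simp [b, hσi.eq_iff]
  have hb0 : ∀ k, b k ≠ 0 → ∃ i, σ i = k := fun k hk => by
    by_contra! h
    exact hk (Finset.sum_eq_zero fun i _ => if_neg (h i))
  -- the quadratic form on the whole closed fibre
  have hQ : ∑ q : Fin n × Fin n, b q.1 * b q.2 * ArSurf.inter R X (L' q.2) (Δ q.1) = 0 := by
    rw [← h0]
    symm
    refine Finset.sum_bij_ne_zero (fun p _ _ => (σ p.1, σ p.2)) (fun _ _ _ => Finset.mem_univ _)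
      (fun p _ _ q _ _ h => Prod.ext (hσi (congrArg Prod.fst h)) (hσi (congrArg Prod.snd h))) (fun q _ hq => ?_)
      (fun p _ _ => by simp [hb, key])
    obtain ⟨i, hi⟩ := hb0 q.1 fun h => hq (by simp [h])
    obtain ⟨j, hj⟩ := hb0 q.2 fun h => hq (by simp [h])
    refine ⟨(i, j), Finset.mem_univ _, ?_, Prod.ext hi hj⟩
    simpa [key, ← hb, hi, hj] using hq
  set a : Fin n → Fin n → ℤ := fun i j => ArSurf.inter R X (L' j) (Δ i)
  set m : Fin n → ℤ := fun i => (Models.mult R X (Δ i) : ℤ)
  have hm : ∀ i, 0 < m i := fun i => Int.natCast_pos.2 (VertIntLib.mult_pos hreg hΔ i)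
  have hs := VertIntLib.list_symm hreg hΔ hL'
  have hk : ∀ i, ∑ j, a i j * m j = 0 := fun i => by
    simpa only [a, m, mul_comm] using VertIntLib.list_row hreg hΔ hL' i
  have ho : ∀ i j, i ≠ j → 0 ≤ a i j := fun _ _ hij => (VertIntLib.list_offdiag hreg hΔ hL' hij).1
  have hid := VertIntLib.quad_identity a m hs hm hk b
  rw [hQ, Int.cast_zero, mul_zero, zero_eq_neg,
    Finset.sum_eq_zero_iff_of_nonneg fun q _ => VertIntLib.term_nonneg a m hm ho b q] at hid
  set ρ : ℚ := (b (σ i₀) : ℚ) / m (σ i₀)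
  have hρ : ρ ≠ 0 := div_ne_zero (by rw [hb]; exact_mod_cast hi₀) (by exact_mod_cast (hm _).ne')
  set C : Set (Fin n) := {k | (b k : ℚ) / m k = ρ}
  have hCσ : ∀ k ∈ C, ∃ i, σ i = k := fun k hk => hb0 k fun h => hρ (by rw [← (hk : _ = ρ), h]; simp)
  have hmeet : ∀ p ∈ C, ∀ q, q ∉ C → Disjoint (Set.range ((Δ p).ι.base : (Δ p).curve.left → X.left))
      (Set.range ((Δ q).ι.base : (Δ q).curve.left → X.left)) := fun p hp q hq => by
    have hpq : p ≠ q := fun h => hq (h ▸ hp)
    refine (VertIntLib.list_offdiag hreg hΔ hL' hpq).2.1 ?_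
    by_contra hne
    have ht := hid (p, q) (Finset.mem_univ _)
    have hap : (a p q : ℚ) ≠ 0 := by exact_mod_cast hne
    have h1 : (m p : ℚ) ≠ 0 := by exact_mod_cast (hm p).ne'
    have h2 : (m q : ℚ) ≠ 0 := by exact_mod_cast (hm q).ne'
    simp only [mul_eq_zero, hap, h1, h2, false_or, sq_eq_zero_iff, sub_eq_zero] at ht
    exact hq (ht ▸ hp : (b q : ℚ) / m q = ρ)
  -- the fibre over `y`
  set S : Set X.left := ⋃ k ∈ C, Set.range ((Δ k).ι.base : (Δ k).curve.left → X.left)
  set T : Set X.left := ⋃ k ∈ Cᶜ, Set.range ((Δ k).ι.base : (Δ k).curve.left → X.left)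
  have hScl : IsClosed S := (Set.toFinite C).isClosed_biUnion fun k _ => (Δ k).ι.isClosedEmbedding.isClosed_range
  have hTcl : IsClosed T := (Set.toFinite Cᶜ).isClosed_biUnion fun k _ => (Δ k).ι.isClosedEmbedding.isClosed_range
  have hSy : S ⊆ f.left ⁻¹' {y} := by
    intro z hz
    obtain ⟨k, hk, hzk⟩ := Set.mem_iUnion₂.1 hz
    obtain ⟨i, rfl⟩ := hCσ k hk
    rw [VertIntLib.range_eq_closure, hσ] at hzk
    have hcl : IsClosed ({y} : Set Y.left) := by
      rw [← hΓy i, Scheme.Hom.comp_base, TopCat.coe_comp, Set.range_comp]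
      exact f.left.isClosedMap _ (Γ i).ι.isClosedEmbedding.isClosed_range
    refine closure_minimal (Set.singleton_subset_iff.2 ?_) (hcl.preimage f.left.continuous) hzk
    exact (hΓy i).subset ⟨_, rfl⟩
  have hy_over : Y.hom y = closedPoint R := by
    obtain ⟨w, hw⟩ : y ∈ Set.range (((Γ i₀).ι ≫ f.left).base : (Γ i₀).curve.left → Y.left) := by
      rw [hΓy i₀]; rfl
    rw [← hw]
    show Y.hom (f.left ((Γ i₀).ι w)) = _
    rw [← Scheme.Hom.comp_apply f.left, Over.w f]
    exact VertIntLib.over_closedPoint (Γ i₀) w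
  have hover : ∀ z, f.left z = y → z ∈ Models.specialFibreSet R X := fun z hz => by
    show X.hom z = closedPoint R
    rw [← Over.w f, Scheme.Hom.comp_apply, hz, hy_over]
  have hcover : ∀ z ∈ Models.specialFibreSet R X, z ∈ S ∨ z ∈ T := fun z hz => by
    obtain ⟨k, hk⟩ := VertIntLib.cover_of_list hΔ z hz
    by_cases hkC : k ∈ C
    · exact Or.inl (Set.mem_iUnion₂.2 ⟨k, hkC, hk⟩)
    · exact Or.inr (Set.mem_iUnion₂.2 ⟨k, hkC, hk⟩)
  have hST : ∀ z ∈ S, z ∉ T := fun z hzS hzT => by
    obtain ⟨p, hp, hzp⟩ := Set.mem_iUnion₂.1 hzS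
    obtain ⟨q, hq, hzq⟩ := Set.mem_iUnion₂.1 hzT
    exact Set.disjoint_left.1 (hmeet p hp q hq) hzp hzq
  have hconn : _root_.IsPreconnected (f.left ⁻¹' {y}) := by
    haveI := Groth.Agent.S15544.result (fun q => ⟨inferInstance, hnor q⟩) f.left
      (map_genericPoint f.left W hW) (isIso_stalkMap_generic f.left W hW) y
    rw [← Scheme.Hom.range_fiberι]
    exact (isConnected_range (f.left.fiberι y).continuous).isPreconnected
  have hx₀S : Models.genPtOf R X (Δ (σ i₀)) ∈ S := Set.mem_iUnion₂.2 ⟨σ i₀, rfl, ⟨_, rfl⟩⟩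
  have hnoT : ∀ z ∈ T, f.left z ≠ y := fun z hz he => by
    obtain ⟨w, hw, hwS, hwT⟩ := isPreconnected_closed_iff.1 hconn S T hScl hTcl
      (fun w hw => hcover w (hover w hw)) ⟨_, hSy hx₀S, hx₀S⟩ ⟨z, he, hz⟩
    exact hST w hwS hwT
  -- `y` is isolated in the closed fibre of `Y`
  let V : Y.left.Opens := ⟨(f.left '' T)ᶜ, (f.left.isClosedMap T hTcl).isOpen_compl⟩
  have hVy : (V : Set Y.left) ∩ Models.specialFibreSet R Y ⊆ {y} := by
    rintro q ⟨hq1, hq2⟩
    obtain ⟨z, rfl⟩ : q ∈ Set.range f.left :=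
      ((genericPoint_spec Y.left).specializes (Set.mem_univ q)).mem_closed f.left.isClosedMap.isClosed_range
        ⟨_, map_genericPoint f.left W hW⟩
    have hz : z ∈ Models.specialFibreSet R X := by
      show X.hom z = closedPoint R
      rw [← Over.w f, Scheme.Hom.comp_apply]; exact hq2
    rcases hcover z hz with h | h
    · exact hSy h
    · exact absurd ⟨z, h, rfl⟩ hq1
  have hp := principal_of_isolated y hy_over (hnor y) V (fun ⟨z, hz, he⟩ => hnoT z hz he) hVy
  -- but the fibre over `y` contains a curve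
  haveI : IsDomain (Y.left.presheaf.stalk y) := inferInstance
  have hss := fibre_subsingleton_of_principal f.left W hW y (hnor y) hp
  obtain ⟨c, hc⟩ : ∃ c, c ≠ genericPoint (Γ i₀).curve.left := by
    by_contra! hall
    haveI : Subsingleton ↥(Γ i₀).curve.left := ⟨fun a b => (hall a).trans (hall b).symm⟩
    have := topologicalKrullDim_zero_of_discreteTopology (X := ↥(Γ i₀).curve.left)
    rw [(Γ i₀).dim_eq] at this
    exact (not_le.2 zero_lt_one) this
  refine hc ((Γ i₀).ι.isClosedEmbedding.injective (hss ?_ ?_)) <;>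
    exact (hΓy i₀).subset ⟨_, rfl⟩

end PtBlowFactLib
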