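import Groth.Agent.PtBlowFactLib.Exc
import Groth.Agent.PtBlowFactLib.NegDef
import Groth.Agent.BlowRegLib.ExcPoint
import Groth.Agent.BlowRegLib.Counit
import Groth.Agent.VertChiLib.CompExists
import Groth.Agent.LinSysLib.BlowUp
import Groth.Agent.LinSysLib.AmpleProj
import Groth.Agent.AmpleThLib.Embed
import Groth.Agent.AmpleThLib.VeryAmple
import Groth.Agent.ContractLib.Stein
import Groth.Agent.MiscFlat6.LCPoint
import Groth.Agent.S4381
import Groth.Agent.GenusZeroLib.PSpace

/-!
# A non-trivial birational morphism of regular surfaces contracts an exceptional curve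
-/

set_option autoImplicit false
set_option linter.style.haveILetI false
set_option linter.unusedSectionVars false
set_option maxHeartbeats 2000000
set_option backward.isDefEq.respectTransparency false
set_option backward.isDefEq.respectTransparency.types false
universe u

open CategoryTheory CategoryTheory.Limits AlgebraicGeometry TopologicalSpace Topology IsLocalRing

noncomputable section

namespace PtBlowFactLib

variable {R : Type u} [CommRing R] [IsDomain R]

theorem comap_eq_bot_off {Y : Scheme.{u}} {y : Y} (hy : IsClosed ({y} : Set Y)) :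
    (Scheme.IdealSheafData.vanishingIdeal (⟨{y}, hy⟩ : Closeds Y)).comap (Scheme.Opens.ι (⟨{y}ᶜ, hy.isOpen_compl⟩ : Y.Opens)) = ⊤ := by
  rw [← Scheme.IdealSheafData.support_eq_bot_iff]
  refine Closeds.ext (Set.eq_empty_iff_forall_notMem.2 fun w hw => ?_)
  rw [SetLike.mem_coe, Scheme.IdealSheafData.support_comap] at hw
  exact w.2 ((Scheme.IdealSheafData.coe_support_vanishingIdeal (⟨{y}, hy⟩ : Closeds Y)).subset hw)

/-- A morphism which is an isomorphism over an open containing the generic fibre is one on generic fibres. -/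
theorem isIso_genericFibre_map {X Y : Over (Spec (CommRingCat.of R))} (f : X ⟶ Y) (W : Y.left.Opens)
    [IsIso (f.left ∣_ W)] (hW : ∀ y, Y.hom y = RelMinSmLib.eta (R := R) → y ∈ W) :
    IsIso ((Neron.genericFibre R).map f) := by
  set F := ((Neron.genericFibre R).map f).left
  set pX := pullback.fst X.hom (Neron.genPt R)
  set pY := pullback.fst Y.hom (Neron.genPt R)
  have hF1 : F ≫ pY = pX ≫ f.left := by simp [F, pX, pY, Neron.genericFibre, Over.pullback]
  have hF2 : F ≫ pullback.snd Y.hom (Neron.genPt R) = pullback.snd X.hom (Neron.genPt R) := by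
    simp [F, Neron.genericFibre, Over.pullback]
  have hsq : IsPullback pX F f.left pY := by
    refine IsPullback.of_bot ?_ hF1.symm (IsPullback.of_hasPullback Y.hom (Neron.genPt R))
    rw [hF2, Over.w f]
    exact IsPullback.of_hasPullback X.hom (Neron.genPt R)
  have hr : Set.range pY ⊆ Set.range W.ι := by
    rw [Scheme.Opens.range_ι, Scheme.Pullback.range_fst, RelMinSmLib.range_genPt]
    exact fun y hy => hW y hy
  let q' := IsOpenImmersion.lift W.ι pY hr
  have hq' : q' ≫ W.ι = pY := IsOpenImmersion.lift_fac _ _ _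
  have hR := (isPullback_morphismRestrict f.left W).flip
  rw [← hq'] at hsq
  let l := hR.lift pX (F ≫ q') (by rw [Category.assoc, hq', hF1])
  have hl1 : l ≫ (f.left ⁻¹ᵁ W).ι = pX := hR.lift_fst _ _ _
  have hl2 : l ≫ (f.left ∣_ W) = F ≫ q' := hR.lift_snd _ _ _
  have hsq' : IsPullback l F (f.left ∣_ W) q' := IsPullback.of_right (hl1.symm ▸ hsq) hl2 hR
  haveI : IsIso F := MorphismProperty.of_isPullback (P := MorphismProperty.isomorphisms Scheme) hsq'
    (inferInstanceAs (IsIso (f.left ∣_ W)))
  haveI : IsIso ((Over.forget _).map ((Neron.genericFibre R).map f)) := ‹IsIso F›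
  exact isIso_of_reflects_iso ((Neron.genericFibre R).map f) (Over.forget _)

/-- A dominated normal point of dimension at most one has a principal maximal ideal. -/
theorem principal_of_dim_le_one (A : Type u) [CommRing A] [IsDomain A] [IsLocalRing A] [IsNoetherianRing A]
    [IsIntegrallyClosed A] (h : ringKrullDim A ≤ 1) : (maximalIdeal A).IsPrincipal := by
  have h43 := (tfae_of_isNoetherianRing_of_isLocalRing_of_isDomain A).out 4 3
  refine h43.mpr ⟨inferInstance, fun P hP hPp => ?_⟩
  by_contra hne
  have hlt : P < maximalIdeal A := lt_of_le_of_ne (le_maximalIdeal hPp.ne_top) hne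
  have h1 : (⊥ : Ideal A).height < P.height := Ideal.height_strict_mono_of_isPrime (bot_lt_iff_ne_bot.2 hP)
  have h2 : P.height < (maximalIdeal A).height := Ideal.height_strict_mono_of_isPrime hlt
  have hht : (maximalIdeal A).height ≤ 1 := by
    rw [← IsLocalRing.maximalIdeal_height_eq_ringKrullDim] at h
    exact_mod_cast h
  have : (1 : ℕ∞) ≤ P.height := Order.one_le_iff_pos.2 (lt_of_le_of_lt zero_le h1)
  exact absurd (h2.trans_le hht) (not_lt.2 this)

variable [IsDiscreteValuationRing R]

/-- A birational open of a morphism inducing an isomorphism of generic fibres. -/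
theorem exists_birational_open {X Y : Over (Spec (CommRingCat.of R))} [IsIntegral X.left] [IsIntegral Y.left]
    [IsProper X.hom] [IsProper Y.hom] [Flat X.hom] [Flat Y.hom] (f : X ⟶ Y) [IsIso ((Neron.genericFibre R).map f)]
    (hnor : ∀ y : Y.left, IsIntegrallyClosed (Y.left.presheaf.stalk y)) :
    ∃ W : Y.left.Opens, (W : Set Y.left).Nonempty ∧ IsIso (f.left ∣_ W) ∧
      f.left (genericPoint X.left) = genericPoint Y.left := by
  haveI := isProper_hom f
  haveI : IsLocallyNoetherian Y.left := LocallyOfFiniteType.isLocallyNoetherian Y.hom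
  haveI : CompactSpace Y.left := QuasiCompact.compactSpace_of_compactSpace Y.hom
  haveI : IsNoetherian Y.left := ⟨⟩
  set ξ := genericPoint X.left
  have hξη : X.hom ξ = RelMinSmLib.eta (R := R) := by
    obtain ⟨x', hx'ξ, hx'⟩ := Flat.generalizingMap X.hom (RelMinSmLib.eta_specializes (X.hom ξ))
    have : x' = ξ := (hx'ξ.antisymm ((genericPoint_spec X.left).specializes trivial)).eq
    rw [← this, hx']
  have hbij := RelMinSmLib.bijOn_generic f
  have hηY : Y.hom (genericPoint Y.left) = RelMinSmLib.eta (R := R) := by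
    obtain ⟨y', hy'ξ, hy'⟩ := Flat.generalizingMap Y.hom (RelMinSmLib.eta_specializes (Y.hom (genericPoint Y.left)))
    have : y' = genericPoint Y.left := (hy'ξ.antisymm ((genericPoint_spec Y.left).specializes trivial)).eq
    rw [← this, hy']
  have hdom : f.left ξ = genericPoint Y.left := by
    obtain ⟨x', hx', he⟩ := hbij.surjOn hηY
    exact ((he ▸ ((genericPoint_spec X.left).specializes (Set.mem_univ x')).map f.left.continuous :
      f.left ξ ⤳ genericPoint Y.left).antisymm ((genericPoint_spec Y.left).specializes trivial)).eq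
  have hw : ∀ x, Y.hom (f.left x) = X.hom x := fun x => by rw [← Scheme.Hom.comp_apply, Over.w f]
  have hfib : (f.left ⁻¹' {f.left ξ}).Finite := by
    refine Set.Subsingleton.finite fun a ha b hb => hbij.injOn ?_ ?_ (ha.trans hb.symm)
    · show X.hom a = _; rw [← hw, ha, hdom]; exact hηY
    · show X.hom b = _; rw [← hw, hb, hdom]; exact hηY
  obtain ⟨V₀, hξV₀, hV₀⟩ := exists_isFinite_morphismRestrict_of_finite_preimage_singleton f.left (f.left ξ) hfib
  obtain ⟨W, hξW, hW⟩ := BiratLib.exists_isIso_near' f.left hV₀ hdom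
    (RelMinSmLib.isIso_stalkMap_generic f ξ hξη) (f.left ξ) hξV₀ (hnor _)
  exact ⟨W, ⟨_, hξW⟩, hW, hdom⟩

/-- A non-isomorphism has a big fibre over a closed point of the closed fibre. -/
theorem exists_big_fibre {X Y : Over (Spec (CommRingCat.of R))} (hX : ArSurf.IsArithSurface R X) [IsIntegral Y.left]
    [IsProper Y.hom] [Flat Y.hom] (hnor : ∀ y : Y.left, IsIntegrallyClosed (Y.left.presheaf.stalk y)) (f : X ⟶ Y)
    [IsIso ((Neron.genericFibre R).map f)] (hf : ¬ IsIso f.left) :
    ∃ y : Y.left, IsClosed ({y} : Set Y.left) ∧ Y.hom y = closedPoint R ∧ ¬ (f.left ⁻¹' {y}).Subsingleton := by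
  obtain ⟨hXi, hXp, hXn⟩ := surf_instances hX
  haveI := hXi; haveI := hXp; haveI := hXn
  haveI := hX.2.2.2.1
  haveI := isProper_hom f
  haveI : IsLocallyNoetherian Y.left := LocallyOfFiniteType.isLocallyNoetherian Y.hom
  haveI : CompactSpace Y.left := QuasiCompact.compactSpace_of_compactSpace Y.hom
  haveI : IsNoetherian Y.left := ⟨⟩
  obtain ⟨W, hW, hWi, hdom⟩ := exists_birational_open f hnor
  haveI := hWi
  have hw : ∀ x, Y.hom (f.left x) = X.hom x := fun x => by rw [← Scheme.Hom.comp_apply, Over.w f]
  obtain ⟨u, v, he, huv, hne⟩ : ∃ u v, f.left u = f.left v ∧ u ⤳ v ∧ u ≠ v := by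
    by_contra! h
    refine hf ?_
    have hloc : ∀ y, ∃ V : Y.left.Opens, y ∈ V ∧ IsIso (f.left ∣_ V) := fun y => by
      obtain ⟨w, rfl⟩ : y ∈ Set.range f.left :=
        ((genericPoint_spec Y.left).specializes (Set.mem_univ y)).mem_closed f.left.isClosedMap.isClosed_range
          ⟨_, hdom⟩
      refine Groth.Agent.S1655.result f.left W hW hWi (f.left w) (hnor _) w rfl ?_
      refine Scheme.Hom.quasiFiniteAt_iff_isOpen_singleton_asFiber.2 ?_
      by_contra hopen
      haveI : IsNoetherian (f.left.fiber (f.left w)) := by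
        haveI : LocallyOfFiniteType (f.left.fiberToSpecResidueField (f.left w)) :=
          MorphismProperty.pullback_snd _ _ (inferInstance : LocallyOfFiniteType f.left)
        haveI := LocallyOfFiniteType.isLocallyNoetherian (f.left.fiberToSpecResidueField (f.left w))
        exact ⟨⟩
      obtain ⟨a, b, -, hab, hne'⟩ := RelMinSmLib.exists_specializes_of_not_isOpen hopen
      have hov : ∀ c, f.left (f.left.fiberι (f.left w) c) = f.left w := fun c =>
        (f.left.range_fiberι _).le ⟨c, rfl⟩
      exact hne' ((f.left.fiberι _).isEmbedding.injective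
        (h _ _ ((hov a).trans (hov b).symm) (hab.map (f.left.fiberι _).continuous)))
    choose V hV hVi using hloc
    exact IsZariskiLocalAtTarget.of_iSup_eq_top (P := MorphismProperty.isomorphisms Scheme) V
      (eq_top_iff.2 fun y _ => Opens.mem_iSup.2 ⟨y, hV y⟩) hVi
  have hbig : ¬ (f.left ⁻¹' {f.left v}).Subsingleton := fun h => hne (h he rfl)
  have hover : Y.hom (f.left v) ≠ RelMinSmLib.eta (R := R) := fun h => by
    refine hne ((RelMinSmLib.bijOn_generic f).injOn ?_ ?_ he)
    · show X.hom u = _; rw [← hw, he]; exact h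
    · show X.hom v = _; rw [← hw]; exact h
  have hξu : genericPoint X.left ≠ u := fun h => hover (by
    rw [← he, hw, ← h]
    obtain ⟨x', hx'ξ, hx'⟩ := Flat.generalizingMap X.hom (RelMinSmLib.eta_specializes (X.hom (genericPoint X.left)))
    have : x' = genericPoint X.left := (hx'ξ.antisymm ((genericPoint_spec X.left).specializes trivial)).eq
    rw [← this, hx'])
  have hclosed : IsClosed ({f.left v} : Set Y.left) := by
    refine closure_subset_iff_isClosed.1 fun y' hy' => ?_
    obtain ⟨x', hvx', rfl⟩ := f.left.isClosedMap.specializingMap (specializes_iff_mem_closure.2 hy')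
    by_contra hne''
    exact RelMinSmLib.not_four hX.2.2.1.le ((genericPoint_spec X.left).specializes trivial) huv hvx' hξu hne
      fun h => hne'' (Set.mem_singleton_iff.2 (h ▸ rfl))
  refine ⟨f.left v, hclosed, ?_, hbig⟩
  have h1 : IsClosed ({Y.hom (f.left v)} : Set (Spec (CommRingCat.of R))) := by
    have := Y.hom.isClosedMap _ hclosed
    rwa [Set.image_singleton] at this
  exact PrimeSpectrum.ext (eq_maximalIdeal ((PrimeSpectrum.isClosed_singleton_iff_isMaximal _).1 h1))

/-- The blow-up of a closed point of an arithmetic surface is an arithmetic surface, if two-dimensional. -/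
theorem isArithSurface_blowUp_of_dim {Y : Over (Spec (CommRingCat.of R))} [IsIntegral Y.left]
    (hY : ArSurf.IsArithSurface R Y) (y : Y.left) (hy : IsClosed ({y} : Set Y.left)) (hys : Y.hom y = closedPoint R)
    {Y' : Scheme.{u}} (π : Y' ⟶ Y.left)
    (hπ : BlowUp.IsBlowUp π (Scheme.IdealSheafData.vanishingIdeal ⟨{y}, hy⟩))
    (hdle : topologicalKrullDim Y' ≤ 2) :
    ArSurf.IsArithSurface R (Over.mk (π ≫ Y.hom)) := by
  obtain ⟨hYi, hYp, hYn⟩ := surf_instances hY
  haveI := hYi; haveI := hYp; haveI := hYn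
  haveI := hY.2.2.2.1
  set 𝓘 := Scheme.IdealSheafData.vanishingIdeal (⟨{y}, hy⟩ : Closeds Y.left)
  have hsupp : (𝓘.support : Set Y.left) = {y} :=
    Scheme.IdealSheafData.coe_support_vanishingIdeal _
  have hηY : Y.hom (genericPoint Y.left) = RelMinSmLib.eta (R := R) := by
    obtain ⟨y', hy'ξ, hy'⟩ := Flat.generalizingMap Y.hom (RelMinSmLib.eta_specializes (Y.hom (genericPoint Y.left)))
    have : y' = genericPoint Y.left := (hy'ξ.antisymm ((genericPoint_spec Y.left).specializes trivial)).eq
    rw [← this, hy']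
  have hyne : y ≠ genericPoint Y.left := fun h => VertIntLib.eta_ne_closedPoint (by rw [← hηY, ← h, hys])
  obtain ⟨hY'i, hgen, -⟩ := BlowUpLib.isIntegral_of_isBlowUp hπ (fun h => hyne (by
    have : genericPoint Y.left ∈ ({y} : Set Y.left) := hsupp ▸ (by rw [h, Scheme.IdealSheafData.support_bot]; trivial)
    exact (Set.mem_singleton_iff.1 this).symm))
  haveI := hY'i
  haveI : IsProper π := BlowRegLib.isProper_b hπ
  let q : Y' ⟶ Spec (CommRingCat.of R) := π ≫ Y.hom
  haveI : IsProper q := inferInstance
  haveI : IsProper (Over.mk q).hom := ‹IsProper q›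
  have hgdom : IsDominant π := ⟨by
    rw [DenseRange, dense_iff_closure_eq]
    refine Set.eq_univ_of_univ_subset ?_
    rw [← (genericPoint_spec Y.left).def]
    exact closure_mono (Set.singleton_subset_iff.2 ⟨_, hgen⟩)⟩
  refine ⟨fun z => isRegular_blowUp hY.1 y hy π hπ z, hY'i, ?_, ?_, ?_⟩
  · -- dimension
    haveI := hgdom
    have hπs : Function.Surjective π := fun w =>
      ((genericPoint_spec Y.left).specializes (Set.mem_univ w)).mem_closed π.isClosedMap.isClosed_range ⟨_, hgen⟩
    exact le_antisymm hdle (hY.2.2.1.symm.le.trans (MiscFlat6.dim_le_of_open_or_closed π hπs (Or.inr π.isClosedMap)))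
  · -- flatness
    refine (HasRingHomProperty.iff_exists_appLE (P := @Flat)
      (RingHom.Flat.stableUnderComposition.stableUnderCompositionWithLocalizationAway
        RingHom.Flat.holdsForLocalizationAway).left).2 fun x => ?_
    obtain ⟨U, hU, hxU, -⟩ := exists_isAffineOpen_mem_and_subset (X := Y') (x := x) (U := ⊤) trivial
    haveI : Nonempty U := ⟨⟨x, hxU⟩⟩
    refine ⟨⟨⊤, isAffineOpen_top _⟩, ⟨U, hU⟩, hxU, le_top, ?_⟩
    letI := ((Scheme.ΓSpecIso (CommRingCat.of R)).inv ≫ q.appLE ⊤ U le_top).hom.toAlgebra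
    have hinj : Function.Injective (algebraMap R Γ(Y', U)) := by
      refine (injective_iff_map_eq_zero _).2 fun r hr => ?_
      by_contra hr0
      have hgU : genericPoint Y' ∈ U :=
        ((genericPoint_spec Y').mem_open_set_iff U.2).2 ⟨x, Set.mem_univ x, hxU⟩
      have h1 : q (genericPoint Y') ∈ (Spec (CommRingCat.of R)).basicOpen ((Scheme.ΓSpecIso (CommRingCat.of R)).inv r) := by
        rw [basicOpen_eq_of_affine, Scheme.Hom.comp_apply, hgen, hηY]
        show r ∉ (RelMinSmLib.eta (R := R) : PrimeSpectrum R).asIdeal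
        intro h
        have h' : algebraMap R (FractionRing R) r ∈ maximalIdeal (FractionRing R) := h
        rw [IsLocalRing.maximalIdeal_eq_bot, Ideal.mem_bot] at h'
        exact hr0 (IsFractionRing.injective R (FractionRing R) (h'.trans (map_zero _).symm))
      have h2 : genericPoint Y' ∈ Y'.basicOpen ((q.appLE ⊤ U le_top).hom ((Scheme.ΓSpecIso (CommRingCat.of R)).inv r)) := by
        rw [Scheme.basicOpen_appLE]
        exact ⟨hgU, h1⟩
      rw [show (q.appLE ⊤ U le_top).hom ((Scheme.ΓSpecIso (CommRingCat.of R)).inv r) = 0 from hr,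
        Scheme.basicOpen_zero] at h2
      exact h2
    haveI : Module.IsTorsionFree R Γ(Y', U) := Module.isTorsionFree_iff_algebraMap_injective.2 hinj
    have hflat : (algebraMap R Γ(Y', U)).Flat := RingHom.flat_algebraMap_iff.2 inferInstance
    have e : q.appLE ⊤ U le_top = (Scheme.ΓSpecIso (CommRingCat.of R)).hom ≫
        ((Scheme.ΓSpecIso (CommRingCat.of R)).inv ≫ q.appLE ⊤ U le_top) := (Iso.hom_inv_id_assoc _ _).symm
    show RingHom.Flat (q.appLE ⊤ U le_top).hom
    rw [e]
    exact RingHom.Flat.comp (RingHom.Flat.of_bijective (ConcreteCategory.bijective_of_isIso _)) hflat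
  · -- projectivity
    obtain ⟨n, i, hi, hiw⟩ := hY.2.2.2.2
    haveI := hi
    haveI : IsProper (CohB1.ProjSpaceOver.toBase n (Spec (CommRingCat.of R))) := ChowLib.isProper_toBase n _
    have hA₀i : PicF.IsInvertible (Twist.twistOver n (Spec (CommRingCat.of R)) 1) := PicPnLib.twistOver_inv n _ 1
    have hA₀ : CohB1.IsAmple (Twist.twistOver n (Spec (CommRingCat.of R)) 1) :=
      AmpleThLib.isAmple_of_isRelVeryAmplePn _ hA₀i
        ⟨n, 𝟙 _, inferInstance, Category.id_comp _, ⟨((Scheme.Modules.pullbackId _).app _).symm⟩⟩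
    have hYproj : RelProj.IsProjective Y.hom :=
      LinSysLib.isProjective_of_isRelAmple Y.hom ((Groth.Agent.S4381.result Y.hom _).2
        (AmpleDevLib.isAmple_pb i hA₀i hA₀))
    have hπproj : RelProj.IsProjective π := LinSysLib.isProjective_of_isBlowUp hπ fun W => by
      haveI := IsLocallyNoetherian.component_noetherian W
      exact IsNoetherian.noetherian _
    obtain ⟨⟨-, -, L, hL⟩, -⟩ := MiscFlat6.isQuasiProjective_of_isProjective (LinSysLib.isProjective_comp hπproj hYproj)
    have hA : CohB1.IsAmple L := (Groth.Agent.S4381.result q L).1 hL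
    haveI : IsLocallyNoetherian Y' := LocallyOfFiniteType.isLocallyNoetherian q
    haveI : CompactSpace Y' := QuasiCompact.compactSpace_of_compactSpace q
    haveI : IsNoetherian Y' := ⟨⟩
    obtain ⟨n₀, hd⟩ := AmpleThLib.exists_data q hA.1 hA
    obtain ⟨m, w, K, hcov, haff, hsur⟩ := hd n₀ le_rfl
    obtain ⟨m', j, hj, hjh, -⟩ := AmpleThLib.exists_immersion q (AmpleThLib.tensorPow_isInvertible hA.1 n₀) w K hcov haff hsur
    haveI := hj
    haveI : IsProper (CohB1.ProjSpaceOver.toBase m' (Spec (CommRingCat.of R))) := ChowLib.isProper_toBase m' _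
    haveI : IsProper j := by
      haveI : IsProper (j ≫ CohB1.ProjSpaceOver.toBase m' (Spec (CommRingCat.of R))) := hjh.symm ▸ ‹IsProper q›
      exact IsProper.of_comp j (CohB1.ProjSpaceOver.toBase m' _)
    exact ⟨m', j, IsClosedImmersion.of_isPreimmersion j j.isClosedMap.isClosed_range, hjh⟩

/-- The blow-up of a surface dominated by an arithmetic surface is an arithmetic surface. -/
theorem isArithSurface_blowUp {X Y : Over (Spec (CommRingCat.of R))} [IsIntegral X.left] [IsIntegral Y.left]
    (hX : ArSurf.IsArithSurface R X)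
    (hY : ArSurf.IsArithSurface R Y) (y : Y.left) (hy : IsClosed ({y} : Set Y.left)) (hys : Y.hom y = closedPoint R)
    {Y' : Scheme.{u}} (π : Y' ⟶ Y.left)
    (hπ : BlowUp.IsBlowUp π (Scheme.IdealSheafData.vanishingIdeal ⟨{y}, hy⟩))
    (g : X ⟶ Over.mk (π ≫ Y.hom)) (hgd : π (g.left (genericPoint X.left)) = genericPoint Y.left) :
    ArSurf.IsArithSurface R (Over.mk (π ≫ Y.hom)) := by
  obtain ⟨hXi, hXp, hXn⟩ := surf_instances hX
  obtain ⟨hYi, hYp, hYn⟩ := surf_instances hY
  haveI := hXi; haveI := hXp; haveI := hXn; haveI := hYi; haveI := hYp; haveI := hYn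
  haveI := hY.2.2.2.1
  set 𝓘 := Scheme.IdealSheafData.vanishingIdeal (⟨{y}, hy⟩ : Closeds Y.left)
  have hsupp : (𝓘.support : Set Y.left) = {y} :=
    Scheme.IdealSheafData.coe_support_vanishingIdeal _
  have hηY : Y.hom (genericPoint Y.left) = RelMinSmLib.eta (R := R) := by
    obtain ⟨y', hy'ξ, hy'⟩ := Flat.generalizingMap Y.hom (RelMinSmLib.eta_specializes (Y.hom (genericPoint Y.left)))
    have : y' = genericPoint Y.left := (hy'ξ.antisymm ((genericPoint_spec Y.left).specializes trivial)).eq
    rw [← this, hy']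
  have hyne : y ≠ genericPoint Y.left := fun h => VertIntLib.eta_ne_closedPoint (by rw [← hηY, ← h, hys])
  obtain ⟨hY'i, hgen, -⟩ := BlowUpLib.isIntegral_of_isBlowUp hπ (fun h => hyne (by
    have : genericPoint Y.left ∈ ({y} : Set Y.left) := hsupp ▸ (by rw [h, Scheme.IdealSheafData.support_bot]; trivial)
    exact (Set.mem_singleton_iff.1 this).symm))
  haveI := hY'i
  haveI : IsProper π := BlowRegLib.isProper_b hπ
  let q : Y' ⟶ Spec (CommRingCat.of R) := π ≫ Y.hom
  haveI : IsProper q := inferInstance
  haveI : IsProper (Over.mk q).hom := ‹IsProper q›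
  haveI := isProper_hom g
  have hgdom : IsDominant π := ⟨by
    rw [DenseRange, dense_iff_closure_eq]
    refine Set.eq_univ_of_univ_subset ?_
    rw [← (genericPoint_spec Y.left).def]
    exact closure_mono (Set.singleton_subset_iff.2 ⟨_, hgen⟩)⟩
  refine isArithSurface_blowUp_of_dim hY y hy hys π hπ ?_
  haveI := hgdom
  have hgs : Function.Surjective g.left := by
    have hall : ∀ w, w ∈ closure (Set.range g.left) := by
      haveI : IsIso (π ∣_ (⟨{y}ᶜ, hy.isOpen_compl⟩ : Y.left.Opens)) :=
        BlowRegLib.isIso_off_centre hπ _ (comap_eq_bot_off hy)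
      intro w
      refine closure_mono (Set.singleton_subset_iff.2 (Set.mem_range_self (genericPoint X.left))) ?_
      rw [← specializes_iff_mem_closure]
      have h1 : π (g.left (genericPoint X.left)) = genericPoint Y.left → g.left (genericPoint X.left) = genericPoint Y' := by
        intro h2
        have hg' : genericPoint Y.left ∈ (⟨{y}ᶜ, hy.isOpen_compl⟩ : Y.left.Opens) := hyne.symm
        have h := (π ∣_ (⟨{y}ᶜ, hy.isOpen_compl⟩ : Y.left.Opens)).homeomorph.injective
          (a₁ := ⟨g.left (genericPoint X.left), show π _ ∈ _ from h2 ▸ hg'⟩)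
          (a₂ := ⟨genericPoint Y', show π _ ∈ _ from hgen ▸ hg'⟩) (Subtype.ext (by
            rw [Scheme.Hom.homeomorph_apply, Scheme.Hom.homeomorph_apply, morphismRestrict_base_coe,
              morphismRestrict_base_coe]
            exact h2.trans hgen.symm))
        exact congrArg Subtype.val h
      rw [h1 hgd]
      exact (genericPoint_spec Y').specializes trivial
    intro w
    have := hall w
    rwa [g.left.isClosedMap.isClosed_range.closure_eq] at this
  exact (MiscFlat6.dim_le_of_open_or_closed g.left hgs (Or.inr g.left.isClosedMap)).trans hX.2.2.1.le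

/-- A non-trivial contraction between arithmetic surfaces contracts an exceptional curve. -/
theorem exists_excCurve_of_not_iso : ∀ (m : ℕ) {X Y : Over (Spec (CommRingCat.of R))}
    (hX : ArSurf.IsArithSurface R X) (_hY : ArSurf.IsArithSurface R Y) (f : X ⟶ Y)
    [IsIso ((Neron.genericFibre R).map f)],
    {Z ∈ Models.fibreComponents R X | (f.left '' Z).Subsingleton}.ncard ≤ m → ¬ IsIso f.left →
    ∃ E : ArSurf.VertComp R X, Models.IsExcCurve E.ι := by
  intro m
  induction m using Nat.strong_induction_on with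
  | _ m ih =>
  intro X Y hX hY f _ hm hf
  obtain ⟨hXi, hXp, hXn⟩ := surf_instances hX
  obtain ⟨hYi, hYp, hYn⟩ := surf_instances hY
  haveI := hXi; haveI := hXp; haveI := hXn; haveI := hYi; haveI := hYp; haveI := hYn
  haveI := hX.2.2.2.1
  haveI := hY.2.2.2.1
  haveI := isProper_hom f
  have hnor : ∀ q : Y.left, IsIntegrallyClosed (Y.left.presheaf.stalk q) := fun q =>
    haveI := hY.1 q; Groth.Agent.S9829.result _
  obtain ⟨W, hW, hWi, hdom⟩ := exists_birational_open f hnor
  haveI := hWi
  obtain ⟨y, hy, hys, hbig⟩ := exists_big_fibre hX hnor f hf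
  obtain ⟨Y', π, hπ⟩ := BlowUpLib.exists_isBlowUp Y.left (Scheme.IdealSheafData.vanishingIdeal ⟨{y}, hy⟩)
  obtain ⟨g₀, hg₀⟩ := surf_factor hX hY f W hW y hy hbig π hπ
  let g : X ⟶ Over.mk (π ≫ Y.hom) := Over.homMk g₀ (by
    show g₀ ≫ π ≫ Y.hom = X.hom
    rw [← Category.assoc, hg₀, Over.w f])
  have hY' := isArithSurface_blowUp hX hY y hy hys π hπ g (by
    show π (g₀ (genericPoint X.left)) = _
    rw [← Scheme.Hom.comp_apply, hg₀, hdom])
  let p : Over.mk (π ≫ Y.hom) ⟶ Y := Over.homMk π rfl
  have hgp : g ≫ p = f := Over.OverMorphism.ext hg₀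
  have hsupp : ((Scheme.IdealSheafData.vanishingIdeal ⟨{y}, hy⟩).support : Set Y.left) = {y} :=
    Scheme.IdealSheafData.coe_support_vanishingIdeal _
  haveI hpW : IsIso (p.left ∣_ (⟨{y}ᶜ, hy.isOpen_compl⟩ : Y.left.Opens)) :=
    BlowRegLib.isIso_off_centre hπ _ (comap_eq_bot_off hy)
  haveI : IsIso ((Neron.genericFibre R).map p) :=
    isIso_genericFibre_map p ⟨{y}ᶜ, hy.isOpen_compl⟩ fun q hq h =>
      VertIntLib.eta_ne_closedPoint (hq.symm.trans ((congrArg Y.hom (Set.mem_singleton_iff.1 h)).trans hys))
  haveI : IsIso ((Neron.genericFibre R).map g) := by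
    haveI : IsIso ((Neron.genericFibre R).map g ≫ (Neron.genericFibre R).map p) := by
      rw [← Functor.map_comp, hgp]; infer_instance
    exact IsIso.of_isIso_comp_right _ ((Neron.genericFibre R).map p)
  -- the exceptional curve of the blow-up is an irreducible curve
  haveI := hY.1 y
  have hd2 : ringKrullDim (Y.left.presheaf.stalk y) = ((1 + 1 : ℕ) : WithBot ℕ∞) := by
    obtain ⟨d, hd⟩ : ∃ d : ℕ, ringKrullDim (Y.left.presheaf.stalk y) = (d : ℕ) :=
      ⟨_, IsRegularLocalRing.spanFinrank_maximalIdeal.symm⟩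
    have h2 : ringKrullDim (Y.left.presheaf.stalk y) ≤ 2 := (DimIneqLib.stalk_dim_le_dim y).trans hY.2.2.1.le
    have h1 : ¬ ringKrullDim (Y.left.presheaf.stalk y) ≤ 1 := fun h => by
      haveI := CommAlgDim.isDomain_of_isRegularLocalRing (Y.left.presheaf.stalk y)
      haveI := hnor y
      exact hbig (fibre_subsingleton_of_principal f.left W hW y (hnor y) (principal_of_dim_le_one _ h))
    rw [hd] at h1 h2 ⊢
    norm_cast at h1 h2 ⊢
    omega
  obtain ⟨φ, hφ, -, -⟩ := BlowRegLib.exc_point y hy 1 hd2 hπ
  haveI := hφ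
  have hirrπ : IsIrreducible (π ⁻¹' {y}) := by
    haveI : IrreducibleSpace ((Scheme.IdealSheafData.vanishingIdeal ⟨{y}, hy⟩).comap π).subscheme := by
      haveI : IsIntegral (CohB1.ProjSpace 1 (Y.left.residueField y)) := inferInstance
      exact (asIso φ).inv.homeomorph.irreducibleSpace_iff.1 inferInstance
    have h := (IrreducibleSpace.isIrreducible_univ _).image
      (((Scheme.IdealSheafData.vanishingIdeal ⟨{y}, hy⟩).comap π).subschemeι : _ → Y')
      (((Scheme.IdealSheafData.vanishingIdeal ⟨{y}, hy⟩).comap π).subschemeι.continuous.continuousOn)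
    rw [Set.image_univ, Scheme.IdealSheafData.range_subschemeι, Scheme.IdealSheafData.support_comap,
      Closeds.coe_preimage, hsupp] at h
    exact h
  obtain ⟨n, Γ, hΓ⟩ := VertChiLib.exists_list_of_dim_two (X := X) hX.2.2.1
  have hfin : (Models.fibreComponents R X).Finite := hΓ.2 ▸ Set.finite_range _
  have hover : ∀ x, f.left x = y → X.hom x = closedPoint R := fun x hx => by
    rw [← Over.w f, Scheme.Hom.comp_apply, hx, hys]
  by_cases hg : IsIso g.left
  · -- `f` is the blow-up of `y`
    haveI := hg
    have hfib : f.left ⁻¹' {y} = g.left ⁻¹' (π ⁻¹' {y}) := by rw [← hg₀]; rfl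
    have hirr : IsIrreducible (f.left ⁻¹' {y}) := by
      have h := hirrπ.image (inv g.left : Y' → X.left) (inv g.left).continuous.continuousOn
      convert h using 1
      rw [hfib]
      ext x
      constructor
      · intro hx
        refine ⟨g.left x, hx, ?_⟩
        rw [← Scheme.Hom.comp_apply, IsIso.hom_inv_id]
        rfl
      · rintro ⟨w, hw, rfl⟩
        show g.left (inv g.left w) ∈ π ⁻¹' {y}
        rw [← Scheme.Hom.comp_apply, IsIso.inv_hom_id]
        exact hw
    obtain ⟨u, hu⟩ := QuasiSober.sober hirr (hy.preimage f.left.continuous)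
    obtain ⟨v, hv, hvu⟩ : ∃ v ∈ f.left ⁻¹' {y}, v ≠ u := by
      by_contra! h
      exact hbig fun a ha b hb => (h a ha).trans (h b hb).symm
    have hgu : VertIntLib.IsFibGen u := fun z hz hzu => by
      by_contra hne
      refine RelMinSmLib.not_four hX.2.2.1.le ((genericPoint_spec X.left).specializes trivial) hzu
        (hu.specializes hv) (fun h => ?_) hne hvu.symm
      rw [← h, VertIntLib.genericPoint_over] at hz
      exact VertIntLib.eta_ne_closedPoint hz
    obtain ⟨i, hi⟩ := VertIntLib.eq_genPt_of_isFibGen hΓ (hover u hu.mem) hgu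
    refine ⟨Γ i, isExcCurve_of_contracted hX hY (Γ i) f y hy ?_ ?_⟩
    · rw [VertIntLib.range_eq_closure, hi, hu.def]
    · have h : IsIso ((g.left ≫ p.left) ∣_ (⟨{y}ᶜ, hy.isOpen_compl⟩ : Y.left.Opens)) := by
        rw [morphismRestrict_comp]; infer_instance
      rwa [show g.left ≫ p.left = f.left from hg₀] at h
  · -- the exceptional divisor is dominated by a component not contracted by `g`
    obtain ⟨hY'i, hY'p, hY'n⟩ := surf_instances hY'
    haveI := hY'i; haveI := hY'p; haveI := hY'n
    haveI : IsIntegral Y' := hY'i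
    haveI := hY'.2.2.2.1
    haveI := isProper_hom g
    obtain ⟨W', hW', hW'i, hdom'⟩ := exists_birational_open g fun q => haveI := hY'.1 q; Groth.Agent.S9829.result _
    obtain ⟨e, he⟩ := QuasiSober.sober hirrπ (hy.preimage π.continuous)
    obtain ⟨x, hx⟩ : e ∈ Set.range g.left :=
      ((genericPoint_spec _).specializes (Set.mem_univ e)).mem_closed g.left.isClosedMap.isClosed_range ⟨_, hdom'⟩
    have hxy : f.left x = y := by
      rw [← hg₀, Scheme.Hom.comp_apply, show g₀ x = e from hx]; exact he.mem
    obtain ⟨i, hxi⟩ := VertIntLib.cover_of_list hΓ x (hover x hxy)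
    have hπbig : ¬ (π ⁻¹' {y}).Subsingleton := by
      intro hs
      haveI : Subsingleton ↥(CohB1.ProjSpace 1 (Y.left.residueField y)) := by
        haveI : Subsingleton ↥((Scheme.IdealSheafData.vanishingIdeal ⟨{y}, hy⟩).comap π).subscheme := ⟨fun a b => by
          apply ((Scheme.IdealSheafData.vanishingIdeal ⟨{y}, hy⟩).comap π).subschemeι.isEmbedding.injective
          have hmem : ∀ c, ((Scheme.IdealSheafData.vanishingIdeal ⟨{y}, hy⟩).comap π).subschemeι c ∈ π ⁻¹' {y} := fun c => by
            have h := Set.mem_range_self (f := ((Scheme.IdealSheafData.vanishingIdeal ⟨{y}, hy⟩).comap π).subschemeι) c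
            rwa [Scheme.IdealSheafData.range_subschemeι, Scheme.IdealSheafData.support_comap, Closeds.coe_preimage,
              hsupp] at h
          exact hs (hmem a) (hmem b)⟩
        exact (asIso φ).inv.homeomorph.injective.subsingleton
      have h := topologicalKrullDim_zero_of_discreteTopology (X := ↥(CohB1.ProjSpace 1 (Y.left.residueField y)))
      rw [GenusZeroLib.dim_projSpace] at h
      exact absurd h (by norm_num)
    have hxcl : (g.left '' Set.range (Γ i).ι.base).Subsingleton → False := fun hs => by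
      have hge : g.left '' Set.range (Γ i).ι.base = {e} :=
        Set.Subsingleton.eq_singleton_of_mem hs ⟨x, hxi, hx⟩
      have hcl : IsClosed ({e} : Set Y') := hge ▸ g.left.isClosedMap _ (Γ i).ι.isClosedEmbedding.isClosed_range
      refine hπbig ?_
      rw [← he.def, hcl.closure_eq]
      exact Set.subsingleton_singleton
    refine ih {Z ∈ Models.fibreComponents R X | (g.left '' Z).Subsingleton}.ncard ?_ hX hY' g le_rfl hg
    refine lt_of_lt_of_le (Set.ncard_lt_ncard ?_ (hfin.subset fun Z h => h.1)) hm
    rw [Set.ssubset_iff_of_subset ?_]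
    · refine ⟨Set.range (Γ i).ι.base, ⟨hΓ.2 ▸ ⟨i, rfl⟩, ?_⟩, fun h => hxcl h.2⟩
      refine Set.Subsingleton.anti (Set.subsingleton_singleton (a := y)) ?_
      rintro _ ⟨z, hz, rfl⟩
      rw [VertIntLib.range_eq_closure] at hz hxi
      have hγ : Models.genPtOf R X (Γ i) ∈ f.left ⁻¹' {y} := by
        have h1 : π (g.left (Models.genPtOf R X (Γ i))) = y := by
          by_contra hne
          have h2 : g.left (Models.genPtOf R X (Γ i)) ⤳ e :=
            hx ▸ ((specializes_iff_mem_closure.2 hxi).map g.left.continuous)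
          obtain ⟨c, hc, hce⟩ : ∃ c ∈ π ⁻¹' {y}, c ≠ e := by
            by_contra! hall
            exact hπbig fun a ha b hb => (hall a ha).trans (hall b hb).symm
          have hne' : g.left (Models.genPtOf R X (Γ i)) ≠ e := fun h => hne (by rw [h]; exact he.mem)
          refine RelMinSmLib.not_four hY'.2.2.1.le ((genericPoint_spec _).specializes trivial) h2
            (he.specializes hc) (fun h => ?_) hne' hce.symm
          have hq : (Over.mk (π ≫ Y.hom)).hom (g.left (Models.genPtOf R X (Γ i))) = closedPoint R := by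
            rw [← Scheme.Hom.comp_apply, Over.w g]
            exact VertIntLib.genPt_over (Γ i)
          rw [← h, VertIntLib.genericPoint_over] at hq
          exact VertIntLib.eta_ne_closedPoint hq
        show f.left _ = y
        rw [← hg₀, Scheme.Hom.comp_apply]; exact h1
      exact closure_minimal (Set.singleton_subset_iff.2 hγ) (hy.preimage f.left.continuous) hz
    · rintro Z ⟨hZ, hs⟩
      refine ⟨hZ, ?_⟩
      have h : f.left '' Z = π '' (g.left '' Z) := by
        rw [← Set.image_comp, ← hg₀]; rfl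
      rw [h]
      exact hs.image _

end PtBlowFactLib
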