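import Groth.Agent.PtBlowFactLib.Irr
import Groth.Agent.BlowUpLib.Exists
import Groth.Agent.ChowLib.Embed

/-!
# Point blow-ups and morphisms of arithmetic surfaces
-/

set_option autoImplicit false
set_option linter.style.haveILetI false
set_option linter.unusedSectionVars false
set_option maxHeartbeats 1000000
set_option backward.isDefEq.respectTransparency false
set_option backward.isDefEq.respectTransparency.types false
universe u

open CategoryTheory CategoryTheory.Limits AlgebraicGeometry TopologicalSpace Topology IsLocalRing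

noncomputable section

namespace PtBlowFactLib

variable {R : Type u} [CommRing R] [IsDedekindDomain R]

theorem surf_instances {X : Over (Spec (CommRingCat.of R))} (hX : ArSurf.IsArithSurface R X) :
    IsIntegral X.left ∧ IsProper X.hom ∧ IsNoetherian X.left := by
  obtain ⟨-, hint, -, -, n, i, hi, hiw⟩ := hX
  haveI := hi
  haveI := ChowLib.isProper_toBase n (Spec (CommRingCat.of R))
  haveI : IsProper X.hom := hiw ▸ inferInstance
  haveI : IsLocallyNoetherian X.left := LocallyOfFiniteType.isLocallyNoetherian X.hom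
  haveI : CompactSpace X.left := QuasiCompact.compactSpace_of_compactSpace X.hom
  exact ⟨hint, inferInstance, ⟨⟩⟩

theorem isProper_hom {X Y : Over (Spec (CommRingCat.of R))} [IsProper X.hom] [IsSeparated Y.hom] (f : X ⟶ Y) :
    IsProper f.left := by
  haveI : IsProper (f.left ≫ Y.hom) := by rw [Over.w f]; infer_instance
  exact IsProper.of_comp f.left Y.hom

/-- Two distinct points in a fibre. -/
theorem not_subsingleton_of_big {X Y : Scheme.{u}} {f : X ⟶ Y} {y : Y}
    (hbig : ∃ x x' : X, x ≠ x' ∧ f.base x = y ∧ f.base x' = y) : ¬ (f ⁻¹' {y}).Subsingleton := by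
  obtain ⟨x, x', hne, hx, hx'⟩ := hbig
  exact fun h => hne (h hx hx')

/-- The factorisation for arithmetic surfaces. -/
theorem surf_factor {X Y : Over (Spec (CommRingCat.of R))} (hX : ArSurf.IsArithSurface R X)
    (hY : ArSurf.IsArithSurface R Y) (f : X ⟶ Y) (W : Y.left.Opens) (hW : (W : Set Y.left).Nonempty)
    [IsIso (f.left ∣_ W)] (y : Y.left) (hy : IsClosed ({y} : Set Y.left))
    (hbig : ¬ (f.left ⁻¹' {y}).Subsingleton) {Y' : Scheme.{u}} (π : Y' ⟶ Y.left)
    (hπ : BlowUp.IsBlowUp π (Scheme.IdealSheafData.vanishingIdeal ⟨{y}, hy⟩)) :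
    ∃ g : X.left ⟶ Y', g ≫ π = f.left := by
  obtain ⟨hXi, hXp, hXn⟩ := surf_instances hX
  obtain ⟨hYi, hYp, hYn⟩ := surf_instances hY
  haveI := hXi; haveI := hXp; haveI := hXn; haveI := hYi; haveI := hYp; haveI := hYn
  haveI := isProper_hom f
  haveI := hY.1 y
  exact exists_factor f.left W hW hX.2.2.1.le hX.1 y hy ((DimIneqLib.stalk_dim_le_dim y).trans hY.2.2.1.le)
    (Groth.Agent.S9829.result _) hbig π hπ

/-- An irreducible exceptional locus. -/
theorem surf_isBlowUp {X Y : Over (Spec (CommRingCat.of R))} (hX : ArSurf.IsArithSurface R X)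
    (hY : ArSurf.IsArithSurface R Y) (f : X ⟶ Y) (y : Y.left) (hy : IsClosed ({y} : Set Y.left))
    (hiso : IsIso (f.left ∣_ (⟨{y}ᶜ, hy.isOpen_compl⟩ : Y.left.Opens)))
    (hirr : IsPreirreducible (f.left ⁻¹' {y})) (hbig : ¬ (f.left ⁻¹' {y}).Subsingleton) :
    BlowUp.IsBlowUp f.left (Scheme.IdealSheafData.vanishingIdeal ⟨{y}, hy⟩) := by
  obtain ⟨hXi, hXp, hXn⟩ := surf_instances hX
  obtain ⟨hYi, hYp, hYn⟩ := surf_instances hY
  haveI := hXi; haveI := hXp; haveI := hXn; haveI := hYi; haveI := hYp; haveI := hYn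
  haveI := isProper_hom f
  obtain ⟨Y', π, hπ⟩ := BlowUpLib.exists_isBlowUp Y.left (Scheme.IdealSheafData.vanishingIdeal ⟨{y}, hy⟩)
  refine isBlowUp_of_irreducible f.left hX.2.2.1.le hX.1 hY.1 hY.2.2.1.le y hy hiso hirr hbig (fun he => ?_) π hπ
  haveI : Subsingleton ↥Y.left := by
    have hu : ({y} : Set Y.left) = Set.univ := by rw [← hy.closure_eq, he]; exact (genericPoint_spec Y.left).def
    exact ⟨fun a b => ((hu.symm ▸ Set.mem_univ a : a ∈ ({y} : Set Y.left))).trans
      ((hu.symm ▸ Set.mem_univ b : b ∈ ({y} : Set Y.left))).symm⟩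
  have h0 := topologicalKrullDim_zero_of_discreteTopology (X := ↥Y.left)
  rw [hY.2.2.1] at h0
  exact absurd h0 (by decide)

end PtBlowFactLib
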