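import Mathlib.RingTheory.Filtration
import Mathlib.RingTheory.LocalRing.RingHom.Basic
import Mathlib.RingTheory.UniqueFactorizationDomain.Basic
import Mathlib.RingTheory.Localization.FractionRing
import Mathlib.RingTheory.Polynomial.Basic
import Mathlib.RingTheory.LocalRing.ResidueField.Basic

/-!
# The maximal ideal of a surface point in a birational regular local overring
-/

set_option autoImplicit false
set_option linter.style.haveILetI false
set_option linter.unusedSectionVars false
universe u v w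

open IsLocalRing Polynomial

namespace PtBlowFactLib

variable {B : Type v} [CommRing B] [IsDomain B] [IsLocalRing B] {K : Type w} [Field K]

/-- A polynomial with a root at the quotient of two coprime nonunits has no unit coefficient. -/
theorem coeff_mem_of_root [UniqueFactorizationMonoid B] {φ : B →+* K} (hφ : Function.Injective φ) {a b : B}
    (ha : a ∈ maximalIdeal B) (hb : b ∈ maximalIdeal B) (hb0 : b ≠ 0) (hab : IsRelPrime a b) {t : K}
    (ht : t * φ b = φ a) :
    ∀ (n : ℕ) (c : ℕ → B), ∑ i ∈ Finset.range (n + 1), φ (c i) * t ^ i = 0 → ∀ i ≤ n, c i ∈ maximalIdeal B := by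
  intro n
  induction n with
  | zero =>
    intro c h i hi
    obtain rfl : i = 0 := by omega
    simp only [zero_add, Finset.sum_range_one, pow_zero, mul_one, map_eq_zero_iff φ hφ] at h
    simp [h]
  | succ n ih =>
    intro c h
    have hb' : φ b ≠ 0 := (map_ne_zero_iff φ hφ).2 hb0
    -- clearing denominators
    have h1 : φ (∑ i ∈ Finset.range (n + 2), c i * a ^ i * b ^ (n + 1 - i)) = 0 := by
      rw [map_sum]
      calc ∑ i ∈ Finset.range (n + 2), φ (c i * a ^ i * b ^ (n + 1 - i))
          = ∑ i ∈ Finset.range (n + 2), φ (c i) * t ^ i * φ b ^ (n + 1) := by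
            refine Finset.sum_congr rfl fun i hi => ?_
            have hin : i ≤ n + 1 := Nat.lt_succ_iff.1 (Finset.mem_range.1 hi)
            rw [map_mul, map_mul, map_pow, map_pow, ← ht, mul_pow]
            rw [mul_assoc, mul_assoc, mul_assoc, ← pow_add, Nat.add_sub_cancel' hin]
        _ = 0 := by rw [← Finset.sum_mul, h, zero_mul]
    rw [map_eq_zero_iff φ hφ, Finset.sum_range_succ, Nat.sub_self, pow_zero, mul_one] at h1
    have hdvd : b ∣ c (n + 1) * a ^ (n + 1) := by
      refine (dvd_add_right (Finset.dvd_sum fun i hi => ?_)).1 (h1 ▸ dvd_zero b)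
      have : n + 1 - i ≠ 0 := by have := Finset.mem_range.1 hi; omega
      exact Dvd.dvd.mul_left (dvd_pow_self b this) _
    obtain ⟨d, hd⟩ := (hab.pow_left (m := n + 1)).symm.dvd_of_dvd_mul_right hdvd
    have hc : c (n + 1) ∈ maximalIdeal B := hd ▸ Ideal.mul_mem_right d _ hb
    have h2 : ∑ i ∈ Finset.range (n + 1), φ (Function.update c n (c n + d * a) i) * t ^ i = 0 := by
      rw [Finset.sum_range_succ, Function.update_self]
      rw [Finset.sum_congr rfl fun i hi => by rw [Function.update_of_ne (Finset.mem_range.1 hi).ne]]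
      rw [Finset.sum_range_succ, Finset.sum_range_succ, hd] at h
      rw [← h, map_add, map_mul, map_mul, ← ht, pow_succ]
      ring
    intro i hi
    have h3 := ih _ h2
    rcases eq_or_ne i (n + 1) with rfl | hi'
    · exact hc
    · have hin : i ≤ n := by omega
      have := h3 i hin
      rcases eq_or_ne i n with rfl | hne
      · rw [Function.update_self] at this
        exact (Ideal.add_mem_iff_left _ (Ideal.mul_mem_left _ d ha)).1 this
      · rwa [Function.update_of_ne hne] at this

theorem coeff_mem_of_eval₂ [UniqueFactorizationMonoid B] {φ : B →+* K} (hφ : Function.Injective φ) {a b : B}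
    (ha : a ∈ maximalIdeal B) (hb : b ∈ maximalIdeal B) (hb0 : b ≠ 0) (hab : IsRelPrime a b) {t : K}
    (ht : t * φ b = φ a) {G : B[X]} (hG : G.eval₂ φ t = 0) : ∀ i, G.coeff i ∈ maximalIdeal B := by
  intro i
  rw [eval₂_eq_sum_range] at hG
  rcases le_or_gt i G.natDegree with hi | hi
  · exact coeff_mem_of_root hφ ha hb hb0 hab ht _ _ hG i hi
  · rw [coeff_eq_zero_of_natDegree_lt hi]; exact zero_mem _

variable {A : Type u} [CommRing A] [IsDomain A] [IsLocalRing A] [IsNoetherianRing A]

omit [IsDomain A] [IsLocalRing A] [IsNoetherianRing A] in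
theorem exists_homog {a b : A} : ∀ (n : ℕ) {r : A}, r ∈ Ideal.span {a, b} ^ n →
    ∃ c : ℕ → A, r = ∑ i ∈ Finset.range (n + 1), c i * a ^ i * b ^ (n - i) := by
  intro n
  induction n with
  | zero => exact fun {r} _ => ⟨fun _ => r, by simp⟩
  | succ n ih =>
    intro r hr
    rw [pow_succ] at hr
    refine Submodule.mul_induction_on hr (fun x hx y hy => ?_) fun x y ⟨c, hc⟩ ⟨d, hd⟩ => ?_
    · obtain ⟨u, v, rfl⟩ := Ideal.mem_span_pair.1 hy
      obtain ⟨c, rfl⟩ := ih hx
      refine ⟨fun i => (if i = 0 then 0 else c (i - 1) * u) + (if i ≤ n then c i * v else 0), ?_⟩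
      simp only [add_mul, Finset.sum_add_distrib]
      rw [mul_add, Finset.sum_mul, Finset.sum_mul]
      congr 1
      · rw [Finset.sum_range_succ' _ (n + 1)]
        simp only [Nat.succ_ne_zero, if_false, if_true, zero_mul, add_zero, Nat.add_sub_cancel, Nat.sub_zero,
          Nat.succ_sub_succ_eq_sub]
        exact Finset.sum_congr rfl fun i _ => by ring
      · rw [Finset.sum_range_succ _ (n + 1), if_neg (Nat.not_succ_le_self n), zero_mul, zero_mul, add_zero]
        refine Finset.sum_congr rfl fun i hi => ?_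
        have hin : i ≤ n := Nat.lt_succ_iff.1 (Finset.mem_range.1 hi)
        rw [if_pos hin, Nat.succ_sub hin, pow_succ]
        ring
    · refine ⟨fun i => c i + d i, ?_⟩
      simp only [add_mul, Finset.sum_add_distrib, ← hc, ← hd]

/-- Every nonzero element is `bⁿ` times the value of a polynomial with a unit coefficient. -/
theorem exists_pow_mul_eval₂ {a b : A} (hm : maximalIdeal A = Ideal.span {a, b}) {χ : A →+* K} {t : K}
    (ht : t * χ b = χ a) {r : A} (hr : r ≠ 0) :
    ∃ (n : ℕ) (P : A[X]), P.map (residue A) ≠ 0 ∧ χ r = χ b ^ n * P.eval₂ χ t := by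
  classical
  obtain ⟨n, hn, hn'⟩ : ∃ n, r ∈ maximalIdeal A ^ n ∧ r ∉ maximalIdeal A ^ (n + 1) := by
    have h : ∃ n, r ∉ maximalIdeal A ^ (n + 1) := by
      by_contra! h
      refine hr (Ideal.mem_bot.1 ?_)
      rw [← Ideal.iInf_pow_eq_bot_of_isDomain (maximalIdeal A) (maximalIdeal.isMaximal A).ne_top]
      refine Ideal.mem_iInf.2 fun n => ?_
      cases n with
      | zero => simp
      | succ n => exact h n
    refine ⟨Nat.find h, ?_, Nat.find_spec h⟩
    rcases Nat.eq_zero_or_pos (Nat.find h) with h0 | h0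
    · simp [h0]
    · have := Nat.find_min h (m := Nat.find h - 1) (by omega)
      rw [not_not, Nat.sub_add_cancel h0] at this
      exact this
  rw [hm] at hn
  obtain ⟨c, hc⟩ := exists_homog n hn
  refine ⟨n, ∑ i ∈ Finset.range (n + 1), C (c i) * X ^ i, fun h0 => hn' ?_, ?_⟩
  · have hci : ∀ i ∈ Finset.range (n + 1), c i ∈ maximalIdeal A := fun i hi => by
      have := congrArg (fun q => q.coeff i) h0
      simp only [coeff_map, finset_sum_coeff, coeff_C_mul, coeff_X_pow, mul_ite, mul_one, mul_zero,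
        Finset.sum_ite_eq, hi, if_true, coeff_zero] at this
      exact (residue_eq_zero_iff _).1 this
    rw [hc]
    refine Ideal.sum_mem _ fun i hi => ?_
    have hin : i ≤ n := Nat.lt_succ_iff.1 (Finset.mem_range.1 hi)
    rw [mul_assoc, pow_succ']
    refine Ideal.mul_mem_mul (hci i hi) ?_
    rw [← Nat.add_sub_cancel' hin, pow_add, Nat.add_sub_cancel' hin]
    exact Ideal.mul_mem_mul (Ideal.pow_mem_pow (hm ▸ Ideal.subset_span (by simp)) _)
      (Ideal.pow_mem_pow (hm ▸ Ideal.subset_span (by simp)) _)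
  · rw [hc, map_sum, eval₂_finsetSum, Finset.mul_sum]
    refine Finset.sum_congr rfl fun i hi => ?_
    have hin : i ≤ n := Nat.lt_succ_iff.1 (Finset.mem_range.1 hi)
    rw [eval₂_mul, eval₂_C, eval₂_X_pow, map_mul, map_mul, map_pow, map_pow, ← ht, mul_pow]
    conv_rhs => rw [← Nat.add_sub_cancel' hin, pow_add]
    ring

/-- The maximal ideal of `A` generates a principal ideal or a pair of coprime elements in `B`. -/
theorem principal_or_isRelPrime [UniqueFactorizationMonoid B] {a b : A} (hm : maximalIdeal A = Ideal.span {a, b})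
    (ψ : A →+* B) [IsLocalHom ψ] (hψ : Function.Injective ψ) {φ : B →+* K} (hφ : Function.Injective φ)
    (hfrac : letI := (φ.comp ψ).toAlgebra; IsFractionRing A K) :
    ((maximalIdeal A).map ψ).IsPrincipal ∨ (ψ b ≠ 0 ∧ IsRelPrime (ψ a) (ψ b)) := by
  classical
  set χ := φ.comp ψ
  letI := χ.toAlgebra
  haveI : IsFractionRing A K := hfrac
  have hmap : (maximalIdeal A).map ψ = Ideal.span {ψ a, ψ b} := by
    rw [hm, Ideal.map_span, Set.image_pair]
  by_cases hb0 : b = 0
  · left
    rw [hmap, hb0, map_zero, Ideal.span_pair_comm, Ideal.span_insert_zero]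
    exact ⟨_, rfl⟩
  obtain ⟨a', b', h, hcop, ha', hb'⟩ := UniqueFactorizationMonoid.exists_reduced_factors' (ψ a) (ψ b)
    ((map_ne_zero_iff ψ hψ).2 hb0)
  by_cases hh : IsUnit h
  · right
    refine ⟨(map_ne_zero_iff ψ hψ).2 hb0, ?_⟩
    rw [← ha', ← hb', isRelPrime_mul_unit_left_left hh, isRelPrime_mul_unit_left_right hh]
    exact hcop
  left
  have hprinc : IsUnit a' ∨ IsUnit b' → ((maximalIdeal A).map ψ).IsPrincipal := fun hu => by
    refine ⟨h, le_antisymm ?_ ?_⟩
    · rw [hmap, ← ha', ← hb', Ideal.span_le]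
      rintro x (rfl | rfl) <;> exact Ideal.mem_span_singleton.2 (dvd_mul_right _ _)
    · rw [hmap, Ideal.span_singleton_le_iff_mem]
      rcases hu with hu | hu <;> obtain ⟨w, hw⟩ := hu.exists_left_inv
      · rw [show h = w * ψ a by rw [← ha', mul_left_comm, hw, mul_one]]
        exact Ideal.mul_mem_left _ _ (Ideal.subset_span (by simp))
      · rw [show h = w * ψ b by rw [← hb', mul_left_comm, hw, mul_one]]
        exact Ideal.mul_mem_left _ _ (Ideal.subset_span (by simp))
  by_cases hu : IsUnit a' ∨ IsUnit b'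
  · exact hprinc hu
  exfalso
  push Not at hu
  have hb'0 : b' ≠ 0 := fun e => (map_ne_zero_iff ψ hψ).2 hb0 (by rw [← hb', e, mul_zero])
  have hh0 : h ≠ 0 := fun e => (map_ne_zero_iff ψ hψ).2 hb0 (by rw [← hb', e, zero_mul])
  have hχb : χ b ≠ 0 := (map_ne_zero_iff φ hφ).2 ((map_ne_zero_iff ψ hψ).2 hb0)
  let t : K := χ a / χ b
  have ht : t * χ b = χ a := div_mul_cancel₀ _ hχb
  have ht' : t * φ b' = φ a' := by
    have e : χ a = φ h * φ a' ∧ χ b = φ h * φ b' :=
      ⟨by rw [← map_mul, ha']; rfl, by rw [← map_mul, hb']; rfl⟩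
    rw [e.1, e.2] at ht
    exact mul_left_cancel₀ ((map_ne_zero_iff φ hφ).2 hh0) (by rw [← ht]; ring)
  have hker : ∀ G : B[X], G.eval₂ φ t = 0 → ∀ i, G.coeff i ∈ maximalIdeal B := fun G hG =>
    coeff_mem_of_eval₂ hφ hu.1 hu.2 hb'0 hcop ht' hG
  -- the reduction modulo the maximal ideal
  let ρ : A[X] →+* (ResidueField B)[X] := mapRingHom ((residue B).comp ψ)
  have hρ : ∀ P : A[X], P.map (residue A) ≠ 0 → ρ P ≠ 0 := fun P hP h0 => hP (Polynomial.ext fun i => by
    have := congrArg (fun q => q.coeff i) h0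
    simp only [ρ, coe_mapRingHom, coeff_map, RingHom.comp_apply, coeff_zero] at this ⊢
    refine (residue_eq_zero_iff _).2 ?_
    by_contra hne
    exact (residue_eq_zero_iff _).1 this ((notMem_maximalIdeal.1 hne).map ψ))
  have hred : ∀ G : B[X], G.eval₂ φ t = 0 → G.map (residue B) = 0 := fun G hG => Polynomial.ext fun i => by
    rw [coeff_map, coeff_zero]
    exact (residue_eq_zero_iff _).2 (hker G hG i)
  have heval : ∀ P : A[X], (P.map ψ).eval₂ φ t = P.eval₂ χ t := fun P => eval₂_map _ _ _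
  -- every nonzero nonunit of `B` is divisible by `b`
  have key : ∀ z : B, z ≠ 0 → z ∈ maximalIdeal B →
      ∃ (n : ℕ) (P Q : A[X]), ρ P ≠ 0 ∧ ρ Q ≠ 0 ∧ φ z * Q.eval₂ χ t = χ b ^ (n + 1) * P.eval₂ χ t := by
    intro z hz hzm
    obtain ⟨r, s, hs, hrs⟩ := IsFractionRing.div_surjective (A := A) (φ z)
    have hs0 : s ≠ 0 := nonZeroDivisors.ne_zero hs
    have hs' : χ s ≠ 0 := (map_ne_zero_iff φ hφ).2 ((map_ne_zero_iff ψ hψ).2 hs0)
    have hrs' : φ z * χ s = χ r := by rw [← hrs]; exact div_mul_cancel₀ _ hs'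
    have hr0 : r ≠ 0 := fun e => by
      rw [e, map_zero, mul_eq_zero] at hrs'
      exact hrs'.elim ((map_ne_zero_iff φ hφ).2 hz) hs'
    obtain ⟨n, P, hP, hn⟩ := exists_pow_mul_eval₂ hm ht hr0
    obtain ⟨m, Q, hQ, hm'⟩ := exists_pow_mul_eval₂ hm ht hs0
    rw [hn, hm'] at hrs'
    rcases lt_or_ge m n with hlt | hge
    · refine ⟨n - m - 1, P, Q, hρ P hP, hρ Q hQ, mul_left_cancel₀ (pow_ne_zero m hχb) ?_⟩
      rw [show n - m - 1 + 1 = n - m by omega, ← mul_assoc (χ b ^ m) (χ b ^ (n - m)), ← pow_add,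
        Nat.add_sub_cancel' hlt.le, ← hrs']
      ring
    · exfalso
      have h0 : (C (z * ψ b ^ (m - n)) * Q.map ψ - P.map ψ).eval₂ φ t = 0 := by
        rw [eval₂_sub, eval₂_mul, eval₂_C, heval, heval, map_mul, map_pow, sub_eq_zero]
        refine mul_left_cancel₀ (pow_ne_zero n hχb) ?_
        rw [← hrs']
        conv_rhs => rw [← Nat.add_sub_cancel' hge, pow_add]
        show χ b ^ n * (φ z * χ b ^ (m - n) * _) = _
        ring
      have := hred _ h0
      rw [Polynomial.map_sub, Polynomial.map_mul, map_C, map_mul, (residue_eq_zero_iff z).2 hzm, zero_mul,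
        map_zero, zero_mul, zero_sub, neg_eq_zero, Polynomial.map_map] at this
      exact hρ P hP this
  obtain ⟨n, P, Q, hP, hQ, e1⟩ := key h hh0 hh
  obtain ⟨n', P', Q', hP', hQ', e2⟩ := key b' hb'0 hu.2
  have h0 : ((Q * Q').map ψ - C (ψ b ^ (n + n' + 1)) * (P * P').map ψ).eval₂ φ t = 0 := by
    rw [eval₂_sub, eval₂_mul, eval₂_C, heval, heval, eval₂_mul, eval₂_mul, map_pow, sub_eq_zero]
    refine mul_left_cancel₀ hχb ?_
    have e : χ b = φ h * φ b' := by rw [← map_mul, hb']; rfl
    calc χ b * (Q.eval₂ χ t * Q'.eval₂ χ t) = (φ h * Q.eval₂ χ t) * (φ b' * Q'.eval₂ χ t) := by rw [e]; ring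
      _ = χ b ^ (n + 1) * P.eval₂ χ t * (χ b ^ (n' + 1) * P'.eval₂ χ t) := by rw [e1, e2]
      _ = χ b * (φ (ψ b) ^ (n + n' + 1) * (P.eval₂ χ t * P'.eval₂ χ t)) := by
          show _ = χ b * (χ b ^ (n + n' + 1) * _)
          ring
  have := hred _ h0
  have hb1 : residue B (ψ b) = 0 := (residue_eq_zero_iff _).2 (hb' ▸ Ideal.mul_mem_left _ _ hu.2)
  rw [Polynomial.map_sub, Polynomial.map_mul (f := residue B) (p := C _), map_C, map_pow, hb1,
    zero_pow (Nat.succ_ne_zero _), map_zero, zero_mul, sub_zero, Polynomial.map_map] at this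
  exact mul_ne_zero hQ hQ' ((map_mul ρ Q Q').symm.trans this)

end PtBlowFactLib
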