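import Mathlib.RingTheory.DiscreteValuationRing.TFAE
import Mathlib.RingTheory.Valuation.ValuationRing
import Mathlib.RingTheory.LocalRing.RingHom.Basic

/-!
# A valuation ring has no proper dominating overring
-/

set_option autoImplicit false
universe u v w

open IsLocalRing

namespace PtBlowFactLib

/-- A local overring dominating a valuation ring is equal to it. -/
theorem surjective_of_valuationRing {A : Type u} {B : Type v} {K : Type w} [CommRing A] [IsDomain A] [ValuationRing A]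
    [CommRing B] [Field K] (ψ : A →+* B) [IsLocalHom ψ] {φ : B →+* K} (hφ : Function.Injective φ)
    (hfrac : letI := (φ.comp ψ).toAlgebra; IsFractionRing A K) : Function.Surjective ψ := by
  letI := (φ.comp ψ).toAlgebra
  haveI : IsFractionRing A K := hfrac
  intro z
  rcases ValuationRing.isInteger_or_isInteger (R := A) (φ z) with ⟨r, hr⟩ | ⟨r, hr⟩
  · exact ⟨r, hφ hr⟩
  rcases eq_or_ne z 0 with rfl | hz
  · exact ⟨0, map_zero ψ⟩
  have hz' : φ z ≠ 0 := (map_ne_zero_iff φ hφ).2 hz
  have h1 : ψ r * z = 1 := hφ (by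
    rw [map_mul, map_one]
    show (φ.comp ψ) r * φ z = 1
    rw [show (φ.comp ψ) r = (φ z)⁻¹ from hr, inv_mul_cancel₀ hz'])
  obtain ⟨u, hu⟩ : IsUnit r := IsUnit.of_map ψ r (IsUnit.of_mul_eq_one _ h1)
  refine ⟨↑u⁻¹, ?_⟩
  calc ψ ↑u⁻¹ = ψ ↑u⁻¹ * (ψ r * z) := by rw [h1, mul_one]
    _ = ψ (↑u⁻¹ * r) * z := by rw [map_mul, mul_assoc]
    _ = z := by rw [← hu, u.inv_mul, map_one, one_mul]

end PtBlowFactLib
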