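import Groth.Agent.PtBlowFactLib.Surf
import Groth.Agent.BlowRegLib.ArithBlow
import Groth.Agent.VertChiLib.Exc
import Groth.Agent.VertIntLib.Degree

/-!
# Curves contractible to a regular point are exceptional
-/

set_option autoImplicit false
set_option linter.style.haveILetI false
set_option linter.unusedSectionVars false
set_option maxHeartbeats 1000000
set_option backward.isDefEq.respectTransparency false
set_option backward.isDefEq.respectTransparency.types false
universe u

open CategoryTheory CategoryTheory.Limits AlgebraicGeometry TopologicalSpace Topology IsLocalRing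

noncomputable section

namespace PtBlowFactLib

variable {R : Type u} [CommRing R] [IsDomain R] [IsDiscreteValuationRing R]

/-- A curve contracted to a regular point is exceptional. -/
theorem isExcCurve_of_contracted {X Y : Over (Spec (CommRingCat.of R))} (hX : ArSurf.IsArithSurface R X)
    (hY : ArSurf.IsArithSurface R Y) (E : ArSurf.VertComp R X) (f : X ⟶ Y) (y : Y.left) (hy : IsClosed ({y} : Set Y.left))
    (hpre : f.left ⁻¹' {y} = Set.range (E.ι.base : E.curve.left → X.left))
    (hiso : IsIso (f.left ∣_ (⟨{y}ᶜ, hy.isOpen_compl⟩ : Y.left.Opens))) :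
    Models.IsExcCurve E.ι := by
  obtain ⟨hint, hXp, -⟩ := surf_instances hX
  haveI := hint
  haveI := hX.2.2.2.1
  obtain ⟨c, hc⟩ : ∃ c, c ≠ genericPoint E.curve.left := by
    by_contra! hall
    haveI : Subsingleton ↥E.curve.left := ⟨fun a b => (hall a).trans (hall b).symm⟩
    have := topologicalKrullDim_zero_of_discreteTopology (X := ↥E.curve.left)
    rw [E.dim_eq] at this
    exact (not_le.2 zero_lt_one) this
  have hbig : ¬ (f.left ⁻¹' {y}).Subsingleton := fun h => hc (E.ι.isClosedEmbedding.injective
    (h (hpre.ge ⟨c, rfl⟩) (hpre.ge ⟨_, rfl⟩)))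
  have hirr : IsPreirreducible (f.left ⁻¹' {y}) := by
    rw [hpre, ← Set.image_univ]
    exact ((IrreducibleSpace.isIrreducible_univ E.curve.left).image _ E.ι.continuous.continuousOn).2
  have hb := surf_isBlowUp hX hY f y hy hiso hirr hbig
  have hys : Y.hom y = closedPoint R := by
    have h1 : f.left (E.ι c) = y := hpre.ge ⟨c, rfl⟩
    rw [← h1, ← Scheme.Hom.comp_apply f.left, Over.w f]
    exact VertIntLib.over_closedPoint E c
  have hkey : ∀ (h : X.left ⟶ Spec (CommRingCat.of R)), h = f.left ≫ Y.hom →
      ∀ (E' : ArSurf.VertComp R (Over.mk h)), Set.range (E'.ι.base : E'.curve.left → X.left) = f.left ⁻¹' {y} →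
        Models.IsExcCurve E'.ι := by
    rintro h rfl E' hE'
    haveI : IsProper (Over.mk (f.left ≫ Y.hom)).hom := by
      show IsProper (f.left ≫ Y.hom); rw [Over.w f]; exact hXp
    obtain ⟨-, hEc, -⟩ := BlowRegLib.arith_exc hY hy hb E' hE'
    obtain ⟨L, hL⟩ : ∃ L, ClSub.IsInverseOf L (ClSub.idealMod E'.ι.ker) :=
      ⟨_, ⟨HilbPolyLib.swapIso _ _ ≪≫ (MiscFlat6.nonempty_dualIso (IntMultLib.isInvertible_idealMod _ hEc)).some⟩⟩
    exact (BlowRegLib.arith_exc_numbers hY hy hb E' hE' hys L hL).1
  exact hkey X.hom (Over.w f).symm E hpre.symm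

end PtBlowFactLib
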