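import Groth.Agent.PtBlowFactLib.Alg
import Groth.Agent.RelMinSmLib.Main
import Groth.Agent.EffCartLib.Basic
import Groth.Agent.DiagTorLib.ExtProd
import Groth.Agent.DivDescLib.Local
import Groth.Agent.EquidimLib.DimEquidim
import Groth.Agent.RegUFDLib.Basic
import Groth.Prelude.Def_BlowUp2

/-!
# Birational morphisms of surfaces factor through point blow-ups
-/

set_option autoImplicit false
set_option linter.style.haveILetI false
set_option linter.unusedSectionVars false
set_option maxHeartbeats 1000000
set_option backward.isDefEq.respectTransparency false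
set_option backward.isDefEq.respectTransparency.types false
universe u

open CategoryTheory CategoryTheory.Limits AlgebraicGeometry TopologicalSpace Topology IsLocalRing
open EquidimLib (stalkPt)

noncomputable section

namespace PtBlowFactLib

theorem exists_two_generators (A : Type u) [CommRing A] [IsRegularLocalRing A] (h : ringKrullDim A ≤ 2) :
    ∃ a b : A, maximalIdeal A = Ideal.span {a, b} := by
  classical
  obtain ⟨s, hs, hspan⟩ := Submodule.FG.exists_span_finset_card_eq_spanFinrank
    (IsNoetherian.noetherian (maximalIdeal A))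
  have hcard : s.card ≤ 2 := by
    have h1 := IsRegularLocalRing.spanFinrank_maximalIdeal (R := A)
    rw [← h1, ← hs] at h
    exact_mod_cast h
  rcases s.eq_empty_or_nonempty with rfl | ⟨a, ha⟩
  · exact ⟨0, 0, by rw [← hspan]; simp⟩
  rcases (s.erase a).eq_empty_or_nonempty with he | ⟨b, hb⟩
  · refine ⟨a, a, ?_⟩
    rw [← hspan, ← Finset.insert_erase ha, he]
    simp [Ideal.submodule_span_eq]
  · refine ⟨a, b, ?_⟩
    have he : (s.erase a).erase b = ∅ := by
      rw [← Finset.card_eq_zero, Finset.card_erase_of_mem hb, Finset.card_erase_of_mem ha]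
      omega
    rw [← hspan, ← Finset.insert_erase ha, ← Finset.insert_erase hb, he]
    simp [Ideal.submodule_span_eq]

variable {X Y : Scheme.{u}} [IsIntegral X] [IsIntegral Y] (f : X ⟶ Y)

theorem map_genericPoint (W : Y.Opens) (hW : (W : Set Y).Nonempty) [IsIso (f ∣_ W)] :
    f (genericPoint X) = genericPoint Y := by
  have hd : IsDominant f := by
    refine ⟨?_⟩
    have hsub : (W : Set Y) ⊆ Set.range f := fun w hw => by
      obtain ⟨x, hx⟩ := (f ∣_ W).homeomorph.surjective ⟨w, hw⟩
      exact ⟨x.1, (morphismRestrict_base_coe f W x).symm.trans (congrArg Subtype.val hx)⟩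
    exact Dense.mono hsub (W.2.dense hW)
  exact BiratLib.map_genericPoint_of_isDominant f

theorem isIso_stalkMap_generic (W : Y.Opens) (hW : (W : Set Y).Nonempty) [IsIso (f ∣_ W)] :
    IsIso (f.stalkMap (genericPoint X)) := by
  have hmem : genericPoint X ∈ f ⁻¹ᵁ W := by
    show f (genericPoint X) ∈ W
    rw [map_genericPoint f W hW]
    exact ((genericPoint_spec Y).mem_open_set_iff W.2).2 (by simpa using hW)
  exact (MorphismProperty.arrow_mk_iso_iff (MorphismProperty.isomorphisms _)
    (morphismRestrictStalkMap f W ⟨genericPoint X, hmem⟩)).1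
    (inferInstanceAs (IsIso ((f ∣_ W).stalkMap ⟨genericPoint X, hmem⟩)))

/-- The local ring of the image has the same fraction field. -/
theorem isFractionRing_comp (W : Y.Opens) (hW : (W : Set Y).Nonempty) [IsIso (f ∣_ W)] (x : X) :
    letI := ((algebraMap (X.presheaf.stalk x) X.functionField).comp (f.stalkMap x).hom).toAlgebra
    IsFractionRing (Y.presheaf.stalk (f x)) X.functionField := by
  haveI := isIso_stalkMap_generic f W hW
  have hξ := map_genericPoint f W hW
  have hsp : genericPoint X ⤳ x := (genericPoint_spec X).specializes trivial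
  let e : Y.functionField ≅ X.functionField :=
    Y.presheaf.stalkCongr (.of_eq hξ.symm) ≪≫ asIso (f.stalkMap (genericPoint X))
  letI := ((algebraMap (X.presheaf.stalk x) X.functionField).comp (f.stalkMap x).hom).toAlgebra
  refine IsLocalization.isLocalization_of_algEquiv (nonZeroDivisors (Y.presheaf.stalk (f x)))
    (AlgEquiv.ofRingEquiv (f := e.commRingCatIsoToRingEquiv) fun r => ?_)
  show e.hom (Y.presheaf.stalkSpecializes ((genericPoint_spec Y).specializes trivial) r) =
    X.presheaf.stalkSpecializes hsp (f.stalkMap x r)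
  have key : Y.presheaf.stalkSpecializes ((genericPoint_spec Y).specializes (Set.mem_univ (f x))) ≫ e.hom =
      f.stalkMap x ≫ X.presheaf.stalkSpecializes hsp := by
    simp only [e, Iso.trans_hom, TopCat.Presheaf.stalkCongr_hom, asIso_hom]
    rw [← Category.assoc, TopCat.Presheaf.stalkSpecializes_comp]
    exact (Scheme.Hom.stalkSpecializes_stalkMap f (genericPoint X) x hsp)
  exact congr($(key) r)

theorem stalkMap_injective (W : Y.Opens) (hW : (W : Set Y).Nonempty) [IsIso (f ∣_ W)] (x : X) :
    Function.Injective (f.stalkMap x).hom := by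
  have h := isFractionRing_comp f W hW x
  letI := ((algebraMap (X.presheaf.stalk x) X.functionField).comp (f.stalkMap x).hom).toAlgebra
  intro a b hab
  refine h |> fun _ => IsFractionRing.injective (Y.presheaf.stalk (f x)) X.functionField ?_
  show algebraMap _ X.functionField ((f.stalkMap x).hom a) = algebraMap _ X.functionField ((f.stalkMap x).hom b)
  rw [hab]

/-- An isolated point of a fibre over a normal point fills the fibre. -/
theorem fibre_subsingleton_of_quasiFiniteAt [IsNoetherian Y] [IsProper f] (W : Y.Opens) (hW : (W : Set Y).Nonempty)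
    [IsIso (f ∣_ W)] (x : X) (hn : IsIntegrallyClosed (Y.presheaf.stalk (f x))) (hq : f.QuasiFiniteAt x) :
    (f ⁻¹' {f x}).Subsingleton := by
  obtain ⟨V, hV, hfV⟩ := Groth.Agent.S1655.result f W hW inferInstance (f x) hn x rfl hq
  haveI := hfV
  intro a ha b hb
  have ha' : a ∈ f ⁻¹ᵁ V := show f a ∈ V from (show f a = f x from ha) ▸ hV
  have hb' : b ∈ f ⁻¹ᵁ V := show f b ∈ V from (show f b = f x from hb) ▸ hV
  have h := (f ∣_ V).homeomorph.injective (a₁ := ⟨a, ha'⟩) (a₂ := ⟨b, hb'⟩) (Subtype.ext (by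
    show ((f ∣_ V) ⟨a, ha'⟩).1 = ((f ∣_ V) ⟨b, hb'⟩).1
    rw [morphismRestrict_base_coe, morphismRestrict_base_coe]
    exact (show f a = f x from ha).trans (show f b = f x from hb).symm))
  exact congrArg Subtype.val h

set_option maxHeartbeats 2000000 in
/-- **The inverse image of the ideal of a point with a big fibre is invertible.** -/
theorem isEffCartier_comap_point [IsNoetherian Y] [IsLocallyNoetherian X] [IsProper f] (W : Y.Opens)
    (hW : (W : Set Y).Nonempty) [IsIso (f ∣_ W)] (hd : topologicalKrullDim X ≤ 2)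
    (hreg : ∀ x, IsRegularLocalRing (X.presheaf.stalk x)) (y : Y) (hy : IsClosed ({y} : Set Y))
    [IsRegularLocalRing (Y.presheaf.stalk y)] (hdy : ringKrullDim (Y.presheaf.stalk y) ≤ 2)
    (hn : IsIntegrallyClosed (Y.presheaf.stalk y))
    (hbig : ¬ (f ⁻¹' {y}).Subsingleton) :
    BlowUp.IsEffCartierIdeal ((Scheme.IdealSheafData.vanishingIdeal ⟨{y}, hy⟩).comap f) := by
  refine EffCartLib.isEffCartier_of_stalk _ fun x hx U hxU => ?_
  rw [← SDivLib.stalkIdeal_eq _ U hxU, DivDescLib.stalkIdeal_comap]
  obtain rfl : f x = y := by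
    have h := Scheme.IdealSheafData.support_comap (Scheme.IdealSheafData.vanishingIdeal ⟨{y}, hy⟩) f
    have h' : x ∈ f ⁻¹' (((Scheme.IdealSheafData.vanishingIdeal ⟨{y}, hy⟩).support : Set Y)) := by
      rw [h] at hx; exact hx
    rw [Scheme.IdealSheafData.coe_support_vanishingIdeal] at h'
    simpa [hy.closure_eq] using h'
  have hI : IntMult.stalkIdeal (Scheme.IdealSheafData.vanishingIdeal ⟨{f x}, hy⟩) (f x) =
      maximalIdeal (Y.presheaf.stalk (f x)) := by
    rw [← DiagTorLib.stalkIdeal_ptIdeal_self (f x), IntMult.ptIdeal]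
    congr 2
    exact Closeds.ext hy.closure_eq.symm
  rw [hI]
  haveI := hreg x
  haveI := CommAlgDim.isDomain_of_isRegularLocalRing (X.presheaf.stalk x)
  haveI := CommAlgDim.isDomain_of_isRegularLocalRing (Y.presheaf.stalk (f x))
  haveI : UniqueFactorizationMonoid (X.presheaf.stalk x) := RegUFDLib.uniqueFactorizationMonoid _
  set ψ := (f.stalkMap x).hom with hψdef
  have hψ : Function.Injective ψ := stalkMap_injective f W hW x
  obtain ⟨a, b, hab⟩ := exists_two_generators (Y.presheaf.stalk (f x)) hdy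
  haveI : IsLocalHom ψ := inferInstanceAs (IsLocalHom (f.stalkMap x).hom)
  have hmem : ∀ c : Y.presheaf.stalk (f x), c ∈ maximalIdeal (Y.presheaf.stalk (f x)) →
      ψ c ∈ maximalIdeal (X.presheaf.stalk x) := fun c hc hu => hc (isUnit_of_map_unit ψ c hu)
  rcases principal_or_isRelPrime (K := X.functionField) hab ψ hψ
      (φ := algebraMap (X.presheaf.stalk x) X.functionField) (IsFractionRing.injective _ _)
      (isFractionRing_comp f W hW x) with ⟨g, hg⟩ | ⟨hb0, hrel⟩
  · refine ⟨g, mem_nonZeroDivisors_of_ne_zero fun h0 => ?_, hg⟩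
    rw [h0] at hg
    have hbot : (maximalIdeal (Y.presheaf.stalk (f x))).map ψ = ⊥ := by rw [hg]; simp
    rw [Ideal.map_eq_bot_iff_of_injective hψ] at hbot
    obtain ⟨pη, hpη⟩ := EquidimLib.exists_stalkPt ((genericPoint_spec Y).specializes (Set.mem_univ (f x)))
    have hcl : pη = IsLocalRing.closedPoint _ := PrimeSpectrum.ext (by
      show pη.asIdeal = maximalIdeal _
      refine le_antisymm (le_maximalIdeal pη.isPrime.ne_top) ?_
      rw [hbot]; exact bot_le)
    rw [hcl] at hpη
    have hey : f x = genericPoint Y := (Scheme.fromSpecStalk_closedPoint).symm.trans hpη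
    refine hbig (fun p hp q hq => ?_)
    have hgW : f x ∈ W := hey ▸ ((genericPoint_spec Y).mem_open_set_iff W.2).2 (by simpa using hW)
    have h := (f ∣_ W).homeomorph.injective (a₁ := ⟨p, show f p ∈ W from (show f p = f x from hp) ▸ hgW⟩)
      (a₂ := ⟨q, show f q ∈ W from (show f q = f x from hq) ▸ hgW⟩) (Subtype.ext (by
        rw [Scheme.Hom.homeomorph_apply, Scheme.Hom.homeomorph_apply, morphismRestrict_base_coe,
          morphismRestrict_base_coe]
        exact (show f p = f x from hp).trans (show f q = f x from hq).symm))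
    exact congrArg Subtype.val h
  -- the coprime case: `x` is isolated in its fibre
  exfalso
  refine hbig (fibre_subsingleton_of_quasiFiniteAt f W hW x hn ?_)
  have hnot : ∀ q : PrimeSpectrum (X.presheaf.stalk x), ψ a ∈ q.asIdeal → ψ b ∈ q.asIdeal →
      ∃ p : PrimeSpectrum (X.presheaf.stalk x), genericPoint X ≠ stalkPt x p ∧ p ≤ q ∧ p ≠ q := by
    intro q ha hb
    obtain ⟨π, hπq, hπ⟩ := q.isPrime.exists_mem_prime_of_ne_bot fun h => hb0 (by simpa [h] using hb)
    haveI hp : (Ideal.span {π}).IsPrime := (Ideal.span_singleton_prime hπ.ne_zero).2 hπ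
    refine ⟨⟨_, hp⟩, fun h => ?_, (Ideal.span_singleton_le_iff_mem _).2 hπq, fun h => ?_⟩
    · obtain ⟨p0, hp0⟩ : ∃ p0 : PrimeSpectrum (X.presheaf.stalk x), p0.asIdeal = ⊥ := ⟨⊥, rfl⟩
      have h1 : stalkPt x ⟨_, hp⟩ ⤳ stalkPt x p0 := h ▸ (genericPoint_spec X).specializes trivial
      have h2 := EquidimLib.le_of_stalkPt h1
      exact hπ.ne_zero (by simpa [hp0] using h2 (Ideal.mem_span_singleton_self π))
    · rw [← h] at ha hb
      exact hπ.not_isUnit (hrel (Ideal.mem_span_singleton.1 ha) (Ideal.mem_span_singleton.1 hb))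
  have hin : ∀ q : PrimeSpectrum (X.presheaf.stalk x), f (stalkPt x q) = f x → ψ a ∈ q.asIdeal ∧ ψ b ∈ q.asIdeal := by
    intro q hq
    rw [← EquidimLib.stalkPt_comap] at hq
    have h : PrimeSpectrum.comap ψ q = IsLocalRing.closedPoint _ :=
      EquidimLib.stalkPt_injective (f x) (hq.trans Scheme.fromSpecStalk_closedPoint.symm)
    have h' : q.asIdeal.comap ψ = maximalIdeal _ := congrArg PrimeSpectrum.asIdeal h
    constructor <;>
      · show _ ∈ q.asIdeal.comap ψ
        rw [h', hab]
        exact Ideal.subset_span (by simp)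
  have hξ : ∀ z, genericPoint X ⤳ z := fun z => (genericPoint_spec X).specializes trivial
  refine Scheme.Hom.quasiFiniteAt_iff_isOpen_singleton_asFiber.2 ?_
  by_contra hopen
  haveI : IsNoetherian (f.fiber (f x)) := by
    haveI : LocallyOfFiniteType (f.fiberToSpecResidueField (f x)) :=
      MorphismProperty.pullback_snd _ _ (inferInstance : LocallyOfFiniteType f)
    haveI := LocallyOfFiniteType.isLocallyNoetherian (f.fiberToSpecResidueField (f x))
    exact ⟨⟩
  obtain ⟨z, x', hzw, hzx, hne⟩ := RelMinSmLib.exists_specializes_of_not_isOpen hopen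
  have hover : ∀ c, f (f.fiberι (f x) c) = f x := fun c => (f.range_fiberι _).le ⟨c, rfl⟩
  have hzw' : f.fiberι _ z ⤳ x := by
    have := hzw.map (f.fiberι (f x)).continuous
    rwa [f.fiberι_asFiber] at this
  have hzx' := hzx.map (f.fiberι (f x)).continuous
  have hne' : f.fiberι _ z ≠ f.fiberι _ x' := fun h => hne ((f.fiberι _).isEmbedding.injective h)
  obtain ⟨q, hq⟩ := EquidimLib.exists_stalkPt hzw'
  obtain ⟨ha, hb⟩ := hin q (hq ▸ hover z)
  obtain ⟨p, hp1, hp2, hp3⟩ := hnot q ha hb
  have hp4 : stalkPt x p ≠ f.fiberι _ z := fun h => hp3 (EquidimLib.stalkPt_injective x (h.trans hq.symm))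
  have hsp : stalkPt x p ⤳ f.fiberι _ z := hq ▸ EquidimLib.specializes_stalkPt hp2
  exact RelMinSmLib.not_four hd (hξ _) hsp hzx' hp1 hp4 hne'

/-- **Factorisation through the blow-up of a point.** -/
theorem exists_factor [IsNoetherian Y] [IsLocallyNoetherian X] [IsProper f] (W : Y.Opens)
    (hW : (W : Set Y).Nonempty) [IsIso (f ∣_ W)] (hd : topologicalKrullDim X ≤ 2)
    (hreg : ∀ x, IsRegularLocalRing (X.presheaf.stalk x)) (y : Y) (hy : IsClosed ({y} : Set Y))
    [IsRegularLocalRing (Y.presheaf.stalk y)] (hdy : ringKrullDim (Y.presheaf.stalk y) ≤ 2)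
    (hn : IsIntegrallyClosed (Y.presheaf.stalk y))
    (hbig : ¬ (f ⁻¹' {y}).Subsingleton) {Y' : Scheme.{u}} (π : Y' ⟶ Y)
    (hπ : BlowUp.IsBlowUp π (Scheme.IdealSheafData.vanishingIdeal ⟨{y}, hy⟩)) :
    ∃ g : X ⟶ Y', g ≫ π = f :=
  (hπ.2 X f (isEffCartier_comap_point f W hW hd hreg y hy hdy hn hbig)).exists

end PtBlowFactLib
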