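import Groth.Agent.PtBlowFactLib.Geo
import Groth.Agent.PtBlowFactLib.Dvr
import Groth.Agent.BlowRegLib.Global
import Groth.Agent.BlowRegLib.Counit
import Groth.Agent.BlowUpLib.Strict
import Groth.Agent.SDivLib.Stalk
import Groth.Agent.RegCentreLib.Basic

/-!
# Birational morphisms with irreducible exceptional locus are point blow-ups
-/

set_option autoImplicit false
set_option linter.style.haveILetI false
set_option linter.unusedSectionVars false
set_option maxHeartbeats 1000000
set_option backward.isDefEq.respectTransparency false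
set_option backward.isDefEq.respectTransparency.types false
universe u

open CategoryTheory CategoryTheory.Limits AlgebraicGeometry TopologicalSpace Topology IsLocalRing

noncomputable section

namespace PtBlowFactLib

variable {X Y : Scheme.{u}} [IsIntegral X] [IsIntegral Y] (f : X ⟶ Y) [IsNoetherian Y] [IsProper f]

/-- The fibre over a point with a principal maximal ideal is a point. -/
theorem fibre_subsingleton_of_principal (W : Y.Opens) (hW : (W : Set Y).Nonempty) [IsIso (f ∣_ W)] (y : Y)
    [IsDomain (Y.presheaf.stalk y)] (hn : IsIntegrallyClosed (Y.presheaf.stalk y))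
    (hp : (maximalIdeal (Y.presheaf.stalk y)).IsPrincipal) : (f ⁻¹' {y}).Subsingleton := by
  rintro x rfl x₂ hx₂
  haveI : ValuationRing (Y.presheaf.stalk (f x)) :=
    ((tfae_of_isNoetherianRing_of_isLocalRing_of_isDomain (Y.presheaf.stalk (f x))).out 1 4).mpr hp
  have hsurj : ∀ c : X, f c = f x → ∀ (h : f x = f c), Function.Surjective
      ((Y.presheaf.stalkSpecializes (specializes_of_eq h.symm)) ≫ f.stalkMap c).hom := by
    intro c _ h
    have hv : ValuationRing (Y.presheaf.stalk (f c)) := h ▸ ‹ValuationRing (Y.presheaf.stalk (f x))›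
    haveI := hv
    haveI : IsLocalHom (f.stalkMap c).hom := inferInstanceAs (IsLocalHom (f.stalkMap c).hom)
    intro z
    obtain ⟨r, hr⟩ := surjective_of_valuationRing (f.stalkMap c).hom (K := X.functionField)
      (φ := algebraMap (X.presheaf.stalk c) X.functionField) (IsFractionRing.injective _ _)
      (isFractionRing_comp f W hW c) z
    refine ⟨Y.presheaf.stalkSpecializes (specializes_of_eq h) r, ?_⟩
    have e : ∀ r, Y.presheaf.stalkSpecializes (specializes_of_eq h.symm)
        (Y.presheaf.stalkSpecializes (specializes_of_eq h) r) = r := fun r => by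
      rw [← ConcreteCategory.comp_apply, TopCat.Presheaf.stalkSpecializes_comp,
        TopCat.Presheaf.stalkSpecializes_refl, ConcreteCategory.id_apply]
    rw [ConcreteCategory.comp_apply, e, hr]
  refine (fun hq => fibre_subsingleton_of_quasiFiniteAt f W hW x hn hq) ?_ rfl hx₂
  refine Scheme.Hom.quasiFiniteAt_iff_isOpen_singleton_asFiber.2 ?_
  by_contra hopen
  haveI : IsNoetherian (f.fiber (f x)) := by
    haveI : LocallyOfFiniteType (f.fiberToSpecResidueField (f x)) :=
      MorphismProperty.pullback_snd _ _ (inferInstance : LocallyOfFiniteType f)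
    haveI := LocallyOfFiniteType.isLocallyNoetherian (f.fiberToSpecResidueField (f x))
    exact ⟨⟩
  obtain ⟨z, x', -, hzx, hne⟩ := RelMinSmLib.exists_specializes_of_not_isOpen hopen
  have hover : ∀ c, f (f.fiberι (f x) c) = f x := fun c => (f.range_fiberι _).le ⟨c, rfl⟩
  refine hne ((f.fiberι _).isEmbedding.injective ?_)
  set zX := f.fiberι (f x) z
  set xX := f.fiberι (f x) x'
  have hsp : zX ⤳ xX := hzx.map (f.fiberι (f x)).continuous
  have hez : f x = f zX := (hover z).symm
  have hex : f x = f xX := (hover x').symm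
  -- the specialisation map between the local rings is local
  have hcomm : (Y.presheaf.stalkSpecializes (specializes_of_eq hex.symm)) ≫ f.stalkMap xX ≫
      X.presheaf.stalkSpecializes hsp = (Y.presheaf.stalkSpecializes (specializes_of_eq hez.symm)) ≫ f.stalkMap zX := by
    rw [← Scheme.Hom.stalkSpecializes_stalkMap, ← Category.assoc, TopCat.Presheaf.stalkSpecializes_comp]
  have hloc : IsLocalHom (X.presheaf.stalkSpecializes hsp).hom := by
    refine ⟨fun a ha => ?_⟩
    obtain ⟨r, rfl⟩ := hsurj xX (hover x') hex a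
    have h2 : IsUnit (((Y.presheaf.stalkSpecializes (specializes_of_eq hez.symm)) ≫ f.stalkMap zX).hom r) := by
      rw [← hcomm]; exact ha
    have h3 : IsUnit ((Y.presheaf.stalkSpecializes (specializes_of_eq hez.symm)).hom r) :=
      isUnit_of_map_unit (f.stalkMap zX).hom _ h2
    have h4 := h3.map (Y.presheaf.stalkSpecializes (specializes_of_eq hez)).hom
    rw [← ConcreteCategory.comp_apply, TopCat.Presheaf.stalkSpecializes_comp,
      TopCat.Presheaf.stalkSpecializes_refl, ConcreteCategory.id_apply] at h4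
    exact h4.map _
  have h := congrArg (fun φ : Spec (X.presheaf.stalk zX) ⟶ X => φ.base (closedPoint _))
    (Scheme.SpecMap_stalkSpecializes_fromSpecStalk hsp)
  simp only [Scheme.fromSpecStalk_closedPoint] at h
  rw [← h]
  show X.fromSpecStalk xX (PrimeSpectrum.comap (X.presheaf.stalkSpecializes hsp).hom (closedPoint _)) = xX
  haveI := hloc
  rw [comap_closedPoint, Scheme.fromSpecStalk_closedPoint]

omit [IsIntegral X] [IsProper f] in
/-- The blow-up of a closed point of a regular scheme is regular. -/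
theorem isRegular_blowUp (hregY : ∀ y, IsRegularLocalRing (Y.presheaf.stalk y)) (y : Y) (hy : IsClosed ({y} : Set Y))
    {Y' : Scheme.{u}} (π : Y' ⟶ Y) (hπ : BlowUp.IsBlowUp π (Scheme.IdealSheafData.vanishingIdeal ⟨{y}, hy⟩))
    (z : Y') : IsRegularLocalRing (Y'.presheaf.stalk z) := by
  let I := Scheme.IdealSheafData.vanishingIdeal (⟨{y}, hy⟩ : Closeds Y)
  have hI : I = IntMult.ptIdeal y := by
    show Scheme.IdealSheafData.vanishingIdeal _ = Scheme.IdealSheafData.vanishingIdeal _
    congr 1
    exact Closeds.ext hy.closure_eq.symm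
  haveI : IsIntegral I.subscheme := hI ▸ NagataFG.isIntegral_closure y
  have hY : ∀ w : I.subscheme, IsRegularLocalRing (I.subscheme.presheaf.stalk w) := fun w => by
    have hr : Set.range I.subschemeι = {y} := by
      rw [Scheme.IdealSheafData.range_subschemeι]
      exact Scheme.IdealSheafData.coe_support_vanishingIdeal _
    have h1 : ∀ v : I.subscheme, I.subschemeι v = y := fun v => by
      have := Set.mem_range_self (f := I.subschemeι) v
      rw [hr] at this
      exact this
    have hw : w = genericPoint I.subscheme := I.subschemeι.isEmbedding.injective ((h1 w).trans (h1 _).symm)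
    rw [hw]
    exact (inferInstance : IsRegularLocalRing I.subscheme.functionField)
  refine RegCentreLib.isRegularLocalRing_stalk_blowUp hregY I.subschemeι hY π ?_ z
  rw [Scheme.IdealSheafData.ker_subschemeι]
  exact hπ

set_option maxHeartbeats 2000000 in
/-- **An irreducible exceptional locus is the exceptional divisor of a point blow-up.** -/
theorem isBlowUp_of_irreducible [IsLocallyNoetherian X] (hd : topologicalKrullDim X ≤ 2)
    (hreg : ∀ x, IsRegularLocalRing (X.presheaf.stalk x))
    (hregY : ∀ y, IsRegularLocalRing (Y.presheaf.stalk y)) (hdY : topologicalKrullDim Y ≤ 2)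
    (y : Y) (hy : IsClosed ({y} : Set Y)) (hiso : IsIso (f ∣_ (⟨{y}ᶜ, hy.isOpen_compl⟩ : Y.Opens)))
    (hirr : IsPreirreducible (f ⁻¹' {y})) (hbig : ¬ (f ⁻¹' {y}).Subsingleton) (hne : y ≠ genericPoint Y)
    {Y' : Scheme.{u}} (π : Y' ⟶ Y) (hπ : BlowUp.IsBlowUp π (Scheme.IdealSheafData.vanishingIdeal ⟨{y}, hy⟩)) :
    BlowUp.IsBlowUp f (Scheme.IdealSheafData.vanishingIdeal ⟨{y}, hy⟩) := by
  haveI := hregY y
  haveI := CommAlgDim.isDomain_of_isRegularLocalRing (Y.presheaf.stalk y)
  haveI := hiso
  set 𝓘 := Scheme.IdealSheafData.vanishingIdeal (⟨{y}, hy⟩ : Closeds Y) with h𝓘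
  set W : Y.Opens := ⟨{y}ᶜ, hy.isOpen_compl⟩
  have hsupp : (𝓘.support : Set Y) = {y} := Scheme.IdealSheafData.coe_support_vanishingIdeal _
  have hW : (W : Set Y).Nonempty := ⟨genericPoint Y, fun h => hne (Set.mem_singleton_iff.1 h).symm⟩
  have hdy : ringKrullDim (Y.presheaf.stalk y) ≤ 2 := (DimIneqLib.stalk_dim_le_dim y).trans hdY
  have hn : IsIntegrallyClosed (Y.presheaf.stalk y) := Groth.Agent.S9829.result _
  obtain ⟨g, hg⟩ := exists_factor f W hW hd hreg y hy hdy hn hbig π hπ
  haveI : IsProper π := BlowRegLib.isProper_b hπ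
  haveI : IsProper (g ≫ π) := hg ▸ inferInstance
  haveI : IsProper g := IsProper.of_comp g π
  obtain ⟨hY'int, -⟩ := BlowUpLib.isIntegral_of_isBlowUp hπ (fun h => hne (by
    have : genericPoint Y ∈ ({y} : Set Y) := hsupp ▸ (by rw [h, Scheme.IdealSheafData.support_bot]; trivial)
    exact (Set.mem_singleton_iff.1 this).symm))
  haveI := hY'int
  haveI : IsLocallyNoetherian Y' := LocallyOfFiniteType.isLocallyNoetherian π
  haveI : CompactSpace Y' := QuasiCompact.compactSpace_of_compactSpace π
  haveI : IsNoetherian Y' := ⟨⟩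
  haveI hπW : IsIso (π ∣_ W) := BlowRegLib.isIso_off_centre hπ W (by
    rw [← Scheme.IdealSheafData.support_eq_bot_iff]
    refine Closeds.ext (Set.eq_empty_iff_forall_notMem.2 fun w hw => ?_)
    rw [SetLike.mem_coe, Scheme.IdealSheafData.support_comap] at hw
    have hw' : W.ι w ∈ ({y} : Set Y) := hsupp ▸ hw
    exact w.2 hw')
  haveI hgW : IsIso (g ∣_ π ⁻¹ᵁ W) := by
    have h : IsIso ((g ∣_ π ⁻¹ᵁ W) ≫ (π ∣_ W)) := by
      subst hg
      rw [← morphismRestrict_comp]
      exact hiso
    exact IsIso.of_isIso_comp_right _ (π ∣_ W)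
  have hW' : ((π ⁻¹ᵁ W) : Set Y').Nonempty := by
    obtain ⟨w, hw⟩ := hW
    obtain ⟨w', hw'⟩ := (π ∣_ W).homeomorph.surjective ⟨w, hw⟩
    exact ⟨w'.1, w'.2⟩
  -- the centre does not pull back to a point
  have hπbig : ¬ (π ⁻¹' {y}).Subsingleton := by
    intro hs
    obtain ⟨x₀, hx₀⟩ : (f ⁻¹' {y}).Nonempty := by
      rcases (f ⁻¹' {y}).eq_empty_or_nonempty with h | h
      · exact absurd (h ▸ Set.subsingleton_empty) hbig
      · exact h
    have hz₀ : π (g x₀) = y := by rw [← Scheme.Hom.comp_apply, hg]; exact hx₀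
    have hq : π.QuasiFiniteAt (g x₀) := RelMinSmLib.qf_of_finite π _ (by rw [hz₀]; exact hs.finite)
    obtain ⟨V, hV, hπV⟩ := Groth.Agent.S1655.result π W hW inferInstance y hn (g x₀) hz₀ hq
    haveI : IsIso (π.stalkMap (g x₀)) := by
      haveI := hπV
      exact (MorphismProperty.arrow_mk_iso_iff (MorphismProperty.isomorphisms _)
        (morphismRestrictStalkMap π V ⟨g x₀, show π (g x₀) ∈ V from hz₀.symm ▸ hV⟩)).1
        (inferInstanceAs (IsIso ((π ∣_ V).stalkMap _)))
    obtain ⟨U, hxU, t, -, ht⟩ := hπ.1 (g x₀)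
    subst hz₀
    have hst : IntMult.stalkIdeal (𝓘.comap π) (g x₀) = Ideal.span {(Y'.presheaf.germ U.1 (g x₀) hxU).hom t} := by
      rw [SDivLib.stalkIdeal_eq _ U hxU, ht, Ideal.map_span, Set.image_singleton]
    rw [DivDescLib.stalkIdeal_comap, h𝓘] at hst
    have hI : IntMult.stalkIdeal (Scheme.IdealSheafData.vanishingIdeal (⟨{π (g x₀)}, hy⟩ : Closeds Y)) (π (g x₀)) =
        maximalIdeal (Y.presheaf.stalk (π (g x₀))) := by
      rw [← DiagTorLib.stalkIdeal_ptIdeal_self (π (g x₀)), IntMult.ptIdeal]
      congr 2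
      exact Closeds.ext hy.closure_eq.symm
    rw [hI] at hst
    refine hbig (fibre_subsingleton_of_principal f W hW _ hn ?_)
    refine ⟨(inv (π.stalkMap (g x₀))).hom ((Y'.presheaf.germ U.1 (g x₀) hxU).hom t), ?_⟩
    have hc := congrArg (Ideal.map (inv (π.stalkMap (g x₀))).hom) hst
    rw [Ideal.map_map, ← CommRingCat.hom_comp, IsIso.hom_inv_id, CommRingCat.hom_id, Ideal.map_id, Ideal.map_span,
      Set.image_singleton] at hc
    exact hc
  -- `g` is quasi-finite, hence an isomorphism
  have hloc : ∀ z : Y', ∃ V : Y'.Opens, z ∈ V ∧ IsIso (g ∣_ V) := by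
    intro z
    by_cases hz : π z = y
    swap
    · exact ⟨π ⁻¹ᵁ W, hz, hgW⟩
    have hsub : g ⁻¹' {z} ⊆ f ⁻¹' {y} := fun x hx => by
      show f x = y
      rw [← hg, Scheme.Hom.comp_apply, show g x = z from hx, hz]
    obtain ⟨w, hw⟩ : z ∈ Set.range g := by
      have hcl := g.isClosedMap.isClosed_range
      have hgen : g (genericPoint X) = genericPoint Y' := map_genericPoint g (π ⁻¹ᵁ W) hW'
      exact ((genericPoint_spec Y').specializes (Set.mem_univ z)).mem_closed hcl ⟨_, hgen⟩
    haveI := isRegular_blowUp hregY y hy π hπ z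
    have hzn : IsIntegrallyClosed (Y'.presheaf.stalk z) := Groth.Agent.S9829.result _
    by_cases hqf : ∀ u v : X, g u = z → g v = z → u ⤳ v → u = v
    · refine Groth.Agent.S1655.result g (π ⁻¹ᵁ W) hW' inferInstance z hzn w hw ?_
      refine Scheme.Hom.quasiFiniteAt_iff_isOpen_singleton_asFiber.2 ?_
      by_contra hopen
      haveI : IsNoetherian (g.fiber (g w)) := by
        haveI : LocallyOfFiniteType (g.fiberToSpecResidueField (g w)) :=
          MorphismProperty.pullback_snd _ _ (inferInstance : LocallyOfFiniteType g)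
        haveI := LocallyOfFiniteType.isLocallyNoetherian (g.fiberToSpecResidueField (g w))
        exact ⟨⟩
      obtain ⟨a, b, -, hab, hne'⟩ := RelMinSmLib.exists_specializes_of_not_isOpen hopen
      have hov : ∀ c, g (g.fiberι (g w) c) = z := fun c => ((g.range_fiberι _).le ⟨c, rfl⟩).trans hw
      exact hne' ((g.fiberι _).isEmbedding.injective (hqf _ _ (hov a) (hov b) (hab.map (g.fiberι _).continuous)))
    · exfalso
      push Not at hqf
      obtain ⟨u, v, hu, hv, huv, hne'⟩ := hqf
      have hirr' : IsIrreducible (f ⁻¹' {y}) := ⟨⟨u, hsub hu⟩, hirr⟩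
      obtain ⟨η, hη⟩ := QuasiSober.sober hirr' (hy.preimage f.continuous)
      have hηu : η = u := by
        by_contra hne''
        have hξη : genericPoint X ≠ η := fun h => hne (by
          rw [← map_genericPoint f W hW, h]
          exact (show η ∈ f ⁻¹' {y} from hη.mem).symm)
        exact RelMinSmLib.not_four hd ((genericPoint_spec X).specializes trivial)
          (hη.specializes (hsub hu)) huv hξη hne'' hne'
      have hξu : genericPoint X ≠ u := fun h => hne (by
        rw [← map_genericPoint f W hW, h]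
        exact (hsub hu).symm)
      have hzc : ∀ z', z ⤳ z' → z' = z := fun z' hz' => by
        obtain ⟨x', hvx', rfl⟩ := g.isClosedMap.specializingMap (hv ▸ hz' : g v ⤳ z')
        by_contra hne''
        exact RelMinSmLib.not_four hd ((genericPoint_spec X).specializes trivial) huv hvx' hξu hne'
          fun h => hne'' (h ▸ hv)
      refine hπbig fun a ha b hb => ?_
      have hall : ∀ c, π c = y → c = z := fun c hc => by
        obtain ⟨x, rfl⟩ : c ∈ Set.range g :=
          ((genericPoint_spec Y').specializes (Set.mem_univ c)).mem_closed g.isClosedMap.isClosed_range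
            ⟨_, map_genericPoint g (π ⁻¹ᵁ W) hW'⟩
        have hx : x ∈ f ⁻¹' {y} := by show f x = y; rw [← hg, Scheme.Hom.comp_apply, hc]
        have h1 : z ⤳ g x := by
          have := (hηu ▸ hη.specializes hx : u ⤳ x).map g.continuous
          rwa [hu] at this
        exact (hzc (g x) h1)
      exact (hall a ha).trans (hall b hb).symm
  choose V hV hVi using hloc
  haveI : IsIso g := IsZariskiLocalAtTarget.of_iSup_eq_top (P := MorphismProperty.isomorphisms Scheme) V
    (eq_top_iff.2 fun z _ => Opens.mem_iSup.2 ⟨z, hV z⟩) hVi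
  refine ⟨hg ▸ ?_, fun T h hh => ?_⟩
  · rw [Scheme.IdealSheafData.comap_comp]
    exact BlowUpLib.isEffCartier_comap_of_flat g hπ.1
  · obtain ⟨k, hk, huniq⟩ := hπ.2 T h hh
    refine ⟨k ≫ inv g, ?_, fun k' hk' => ?_⟩
    · show (k ≫ inv g) ≫ f = h
      rw [← hg, Category.assoc, IsIso.inv_hom_id_assoc]; exact hk
    · rw [← huniq (k' ≫ g) (by show (k' ≫ g) ≫ π = h; rw [Category.assoc, hg]; exact hk'), Category.assoc,
        IsIso.hom_inv_id, Category.comp_id]

end PtBlowFactLib
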